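import Groth.Agent.EtaMod.Normal
import Groth.Agent.FlatMisc.SpreadGeomRed
import Mathlib.AlgebraicGeometry.Morphisms.SchemeTheoreticallyDominant

/-!
# Finite modifications of affine schemes which are isomorphisms on the generic fibre
-/

set_option autoImplicit false
set_option linter.style.haveILetI false
set_option maxHeartbeats 800000

universe u

open CategoryTheory Limits AlgebraicGeometry TensorProduct Polynomial

namespace Groth.Agent.EtaMod

/-- The algebra behind the affine case. -/
theorem bijective_of_generic {R A B : Type u} [CommRing R] [IsDomain R] [IsIntegrallyClosed R] [CommRing A]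
    [CommRing B] [Algebra R A] [Module.Flat R A] [Algebra.FinitePresentation R A]
    [GeometricallyReduced (Spec.map (CommRingCat.ofHom (algebraMap R A)))]
    [Algebra A B] [Algebra.IsIntegral A B]
    (K : Type u) [Field K] [Algebra R K] [IsFractionRing R K]
    [Algebra A (K ⊗[R] A)]
    (halg : ∀ x : A, algebraMap A (K ⊗[R] A) x = (1 : K) ⊗ₜ[R] x)
    (hinj : Function.Injective (fun b : B => (1 : K ⊗[R] A) ⊗ₜ[A] b))
    (hbij : Function.Bijective (fun z : K ⊗[R] A => z ⊗ₜ[A] (1 : B))) :
    Function.Bijective (algebraMap A B) := by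
  have hRK : Function.Injective (algebraMap R K) := IsFractionRing.injective R K
  have hAK : Function.Injective (Algebra.TensorProduct.includeRight : A →ₐ[R] K ⊗[R] A) :=
    Algebra.TensorProduct.includeRight_injective hRK
  have hcomm : ∀ x : A, (1 : K ⊗[R] A) ⊗ₜ[A] algebraMap A B x = ((1 : K) ⊗ₜ[R] x) ⊗ₜ[A] (1 : B) := fun x => by
    rw [Algebra.algebraMap_eq_smul_one, ← TensorProduct.smul_tmul, Algebra.smul_def, mul_one, halg]
  have hβ : Function.Injective (algebraMap A B) := fun x y hxy => hAK (hbij.1 (by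
    show ((1 : K) ⊗ₜ[R] x) ⊗ₜ[A] (1 : B) = ((1 : K) ⊗ₜ[R] y) ⊗ₜ[A] (1 : B)
    rw [← hcomm, ← hcomm, hxy]))
  refine ⟨hβ, fun b => ?_⟩
  obtain ⟨z, hz : z ⊗ₜ[A] (1 : B) = 1 ⊗ₜ[A] b⟩ := hbij.2 ((1 : K ⊗[R] A) ⊗ₜ[A] b)
  obtain ⟨r, g, hr, hrg⟩ := FlatMisc.SpreadRed.exists_smul_eq_one_tmul K z
  let rA := algebraMap R A r
  have hrA : ∀ w : K ⊗[R] A, algebraMap A (K ⊗[R] A) rA * w = r • w := fun w => by
    have e : (1 : K) ⊗ₜ[R] algebraMap R A r = algebraMap R (K ⊗[R] A) r := by
      rw [Algebra.TensorProduct.algebraMap_apply, Algebra.algebraMap_eq_smul_one (A := A),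
        ← TensorProduct.smul_tmul, ← Algebra.algebraMap_eq_smul_one]
    rw [halg, e, ← Algebra.smul_def]
  have hrb : algebraMap A B rA * b = algebraMap A B g := by
    apply hinj
    show (1 : K ⊗[R] A) ⊗ₜ[A] (algebraMap A B rA * b) = 1 ⊗ₜ[A] algebraMap A B g
    rw [← Algebra.smul_def, TensorProduct.tmul_smul, ← hz, TensorProduct.smul_tmul', hcomm, Algebra.smul_def,
      hrA, hrg]
  obtain ⟨p, hp, hpb⟩ := Algebra.IsIntegral.isIntegral (R := A) b
  have heval : (p.scaleRoots rA).eval g = 0 := by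
    apply hβ
    rw [map_zero, ← Polynomial.eval₂_at_apply, ← hrb, Polynomial.scaleRoots_eval₂_mul]
    rw [show p.eval₂ (algebraMap A B) b = 0 from hpb, mul_zero]
  obtain ⟨a, ha⟩ := Ideal.mem_span_singleton.1 (mem_span_normal r hr g p hp heval)
  refine ⟨a, (hinj ?_).symm⟩
  show (1 : K ⊗[R] A) ⊗ₜ[A] b = 1 ⊗ₜ[A] algebraMap A B a
  have hu : IsUnit (algebraMap A (K ⊗[R] A) rA) := by
    rw [halg]
    exact FlatMisc.SpreadRed.isUnit_algebraMap_tmul (S := A) K hr |> fun h => by
      have e : (1 : K) ⊗ₜ[R] rA = algebraMap R (K ⊗[R] A) r := by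
        show (1 : K) ⊗ₜ[R] algebraMap R A r = _
        rw [Algebra.TensorProduct.algebraMap_apply, Algebra.algebraMap_eq_smul_one (A := A),
          ← TensorProduct.smul_tmul, ← Algebra.algebraMap_eq_smul_one]
      rw [e]; exact h
  refine (hu.map (algebraMap (K ⊗[R] A) ((K ⊗[R] A) ⊗[A] B))).mul_left_cancel ?_
  rw [← Algebra.smul_def, ← Algebra.smul_def, TensorProduct.smul_tmul', TensorProduct.smul_tmul',
    Algebra.algebraMap_eq_smul_one rA, smul_assoc, one_smul, ← TensorProduct.smul_tmul' rA (1 : K ⊗[R] A) b,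
    ← TensorProduct.smul_tmul' rA (1 : K ⊗[R] A) (algebraMap A B a), ← TensorProduct.tmul_smul,
    ← TensorProduct.tmul_smul, Algebra.smul_def, Algebra.smul_def, hrb, ha, map_mul]

/-- The kernel-free form of scheme-theoretic dominance for affine schemes. -/
theorem injective_of_dominant {P Q : CommRingCat.{u}} (ψ : P ⟶ Q) [IsSchemeTheoreticallyDominant (Spec.map ψ)] :
    Function.Injective ψ := by
  have h : Function.Injective (Spec.map ψ).appTop := (Spec.map ψ).app_injective ⊤
  intro x y hxy
  apply (ConcreteCategory.bijective_of_isIso (Scheme.ΓSpecIso P).inv).1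
  apply h
  rw [← CommRingCat.comp_apply, ← CommRingCat.comp_apply, ← Scheme.ΓSpecIso_inv_naturality,
    CommRingCat.comp_apply, CommRingCat.comp_apply, hxy]

/-- Finite modifications over an affine base. -/
theorem isIso_affine (R A : Type u) [CommRing R] [IsDomain R] [IsIntegrallyClosed R] [CommRing A]
    [Algebra R A] [Module.Flat R A] [Algebra.FinitePresentation R A]
    [GeometricallyReduced (Spec.map (CommRingCat.ofHom (algebraMap R A)))]
    (K : Type u) [Field K] [Algebra R K] [IsFractionRing R K]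
    {X' : Scheme.{u}} (f : X' ⟶ Spec (CommRingCat.of A)) [IsIntegralHom f]
    (hdom : IsSchemeTheoreticallyDominant
      (pullback.fst f (Spec.map (CommRingCat.ofHom (Algebra.TensorProduct.includeRight : A →ₐ[R] K ⊗[R] A).toRingHom))))
    (hiso : IsIso
      (pullback.snd f (Spec.map (CommRingCat.ofHom (Algebra.TensorProduct.includeRight : A →ₐ[R] K ⊗[R] A).toRingHom)))) :
    IsIso f := by
  haveI : IsAffine X' := isAffine_of_isAffineHom f
  let β : CommRingCat.of A ⟶ Γ(X', ⊤) := (Scheme.ΓSpecIso (CommRingCat.of A)).inv ≫ f.appTop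
  have hf : f = X'.isoSpec.hom ≫ Spec.map β := by
    rw [Spec.map_comp, Scheme.isoSpec_hom_naturality_assoc]
    simp [Scheme.isoSpec]
  let B : Type u := Γ(X', ⊤)
  letI : Algebra A B := β.hom.toAlgebra
  letI : Algebra A (K ⊗[R] A) := (Algebra.TensorProduct.includeRight : A →ₐ[R] K ⊗[R] A).toRingHom.toAlgebra
  haveI : Algebra.IsIntegral A B := by
    constructor
    haveI : IsIntegralHom (Spec.map β) := by
      rw [show Spec.map β = X'.isoSpec.inv ≫ f by rw [hf, Iso.inv_hom_id_assoc]]
      infer_instance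
    exact IsIntegralHom.SpecMap_iff.1 ‹IsIntegralHom (Spec.map β)›
  let ι := Spec.map (CommRingCat.ofHom (algebraMap A (K ⊗[R] A)))
  let s := Spec.map (CommRingCat.ofHom (algebraMap A B))
  have sq : IsPullback ((pullbackSpecIso A B (K ⊗[R] A)).inv ≫ pullback.fst _ _ ≫ X'.isoSpec.inv)
      ((pullbackSpecIso A B (K ⊗[R] A)).inv ≫ pullback.snd _ _) f ι :=
    (IsPullback.of_hasPullback s ι).of_iso (pullbackSpecIso A B (K ⊗[R] A)) X'.isoSpec.symm (Iso.refl _) (Iso.refl _)
      (by simp [s, ι]) (by simp [s, ι]) (by rw [hf]; simp [s]; rfl) (by simp [ι])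
  haveI := hdom
  haveI := hiso
  have hd : IsSchemeTheoreticallyDominant (Spec.map (CommRingCat.ofHom (algebraMap B (B ⊗[A] (K ⊗[R] A))))) := by
    have e : Spec.map (CommRingCat.ofHom (algebraMap B (B ⊗[A] (K ⊗[R] A)))) =
        (sq.isoPullback.hom ≫ pullback.fst f ι) ≫ X'.isoSpec.hom := by
      rw [sq.isoPullback_hom_fst, Category.assoc, Category.assoc, Iso.inv_hom_id, Category.comp_id]
      exact (pullbackSpecIso_inv_fst A B (K ⊗[R] A)).symm
    haveI : IsSchemeTheoreticallyDominant (pullback.fst f ι) := hdom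
    rw [e]; infer_instance
  have hbij : Function.Bijective (CommRingCat.ofHom (Algebra.TensorProduct.includeRight (R := A) (A := B) (B := K ⊗[R] A)).toRingHom) := by
    have e : Spec.map (CommRingCat.ofHom (Algebra.TensorProduct.includeRight (R := A) (A := B) (B := K ⊗[R] A)).toRingHom) =
        sq.isoPullback.hom ≫ pullback.snd f ι := by
      rw [sq.isoPullback_hom_snd]
      exact (pullbackSpecIso_inv_snd A B (K ⊗[R] A)).symm
    haveI : IsIso (pullback.snd f ι) := hiso
    haveI : IsIso (Spec.map (CommRingCat.ofHom (Algebra.TensorProduct.includeRight (R := A) (A := B) (B := K ⊗[R] A)).toRingHom)) := by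
      rw [e]; infer_instance
    exact isIso_SpecMap_iff.1 this
  have hinj := @injective_of_dominant _ _ _ hd
  let c := Algebra.TensorProduct.comm A B (K ⊗[R] A)
  have hb : Function.Bijective (algebraMap A B) := bijective_of_generic K (fun _ => rfl)
    (fun x y hxy => hinj (c.injective (by simpa [c] using hxy)))
    ⟨fun x y hxy => hbij.1 (c.injective (by simpa [c] using hxy)), fun w => by
      obtain ⟨z, hz⟩ := hbij.2 (c.symm w)
      exact ⟨z, c.symm.injective (by simpa [c] using hz)⟩⟩
  haveI : IsIso β := (ConcreteCategory.isIso_iff_bijective _).2 hb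
  rw [hf]
  infer_instance

end Groth.Agent.EtaMod
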