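import Groth.Agent.EtaMod.Affine
import Groth.Agent.S9821
import Groth.Prelude.Def_Pi1
import Mathlib.AlgebraicGeometry.FunctionField

/-!
# Flat schemes with geometrically reduced fibres over a normal base have no finite modifications
-/

set_option autoImplicit false
set_option backward.isDefEq.respectTransparency false
set_option backward.isDefEq.respectTransparency.types false
set_option linter.style.haveILetI false
set_option maxHeartbeats 800000

universe u

open CategoryTheory Limits AlgebraicGeometry TensorProduct TopologicalSpace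

namespace Groth.Agent.EtaMod

theorem isPullback_comp_mono {C : Type*} [Category C] {P X Y Z Z' : C} {a : P ⟶ X} {b : P ⟶ Y} {r : X ⟶ Z}
    {g : Y ⟶ Z} (sq : IsPullback a b r g) (m : Z ⟶ Z') [Mono m] : IsPullback a b (r ≫ m) (g ≫ m) :=
  ⟨⟨by rw [← Category.assoc, sq.w, Category.assoc]⟩,
    ⟨PullbackCone.IsLimit.mk _
      (fun s => sq.lift s.fst s.snd ((cancel_mono m).1 (by simpa using s.condition)))
      (fun s => sq.lift_fst _ _ _) (fun s => sq.lift_snd _ _ _)
      (fun s k h1 h2 => sq.hom_ext (by simpa using h1) (by simpa using h2))⟩⟩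

variable {S X : Scheme.{u}}

instance quasiCompact_generic [IsIntegral S] [QuasiSeparatedSpace S] :
    QuasiCompact (S.fromSpecStalk (genericPoint S)) := quasiCompact_of_compactSpace _

/-- The generic fibre of a flat morphism to an integral scheme is schematically dense. -/
theorem dominant_generic [IsIntegral S] [QuasiSeparatedSpace S] (φ : X ⟶ S) [Flat φ] :
    IsSchemeTheoreticallyDominant (pullback.fst φ (S.fromSpecStalk (genericPoint S))) := by
  haveI : IsDominant (S.fromSpecStalk (genericPoint S)) := by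
    rw [isDominant_iff]
    intro y
    have : genericPoint S ∈ Set.range (S.fromSpecStalk (genericPoint S)) := by
      rw [Scheme.range_fromSpecStalk]
      exact specializes_rfl
    exact closure_mono (Set.singleton_subset_iff.2 this) (genericPoint_specializes y).mem_closure
  haveI := IsSchemeTheoreticallyDominant.of_isDominant (S.fromSpecStalk (genericPoint S))
  infer_instance

variable {X' : Scheme.{u}}

/-- No finite modification which is an isomorphism on the schematically dense generic fibre. -/
theorem isIso_of_generic [IsIntegral S] [QuasiSeparatedSpace S] (hS : Pi1.IsNormalScheme S) (φ : X ⟶ S)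
    [Flat φ] [LocallyOfFinitePresentation φ]
    (hred : ∀ (K : Type u) [Field K] (k : Spec (CommRingCat.of K) ⟶ S), AlgebraicGeometry.IsReduced (pullback φ k))
    (f : X' ⟶ X) [IsIntegralHom f]
    (hdom : IsSchemeTheoreticallyDominant (pullback.fst f (pullback.fst φ (S.fromSpecStalk (genericPoint S)))))
    (hη : IsIso (pullback.snd f (pullback.fst φ (S.fromSpecStalk (genericPoint S))))) : IsIso f := by
  haveI := hdom
  haveI := hη
  have hx : ∀ x : X, ∃ (V : S.Opens) (W : X.Opens), IsAffineOpen V ∧ IsAffineOpen W ∧ W ≤ φ ⁻¹ᵁ V ∧ x ∈ W := fun x => by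
    obtain ⟨V, hV, hxV, -⟩ := exists_isAffineOpen_mem_and_subset (U := (⊤ : S.Opens)) (x := φ x) trivial
    obtain ⟨W, hW, hxW, hWV⟩ := exists_isAffineOpen_mem_and_subset (U := φ ⁻¹ᵁ V) (x := x) hxV
    exact ⟨V, W, hV, hW, hWV, hxW⟩
  choose V W hV hW hWV hxW using hx
  have hcov : iSup W = ⊤ := top_le_iff.1 fun x _ => Opens.mem_iSup.2 ⟨x, hxW x⟩
  refine (IsZariskiLocalAtTarget.iff_of_iSup_eq_top (P := MorphismProperty.isomorphisms Scheme.{u}) W hcov).2 fun x => ?_
  haveI : Nonempty (V x) := ⟨⟨φ x, hWV x (hxW x)⟩⟩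
  haveI : IsIntegrallyClosed Γ(S, V x) := (S9821.result S).1 hS (V x) (hV x)
  haveI : IsFractionRing Γ(S, V x) S.functionField := functionField_isFractionRing_of_isAffineOpen S (V x) (hV x)
  letI : Algebra Γ(S, V x) Γ(X, W x) := (φ.appLE (V x) (W x) (hWV x)).hom.toAlgebra
  haveI : Module.Flat Γ(S, V x) Γ(X, W x) := φ.flat_appLE (hV x) (hW x) (hWV x)
  haveI : Algebra.FinitePresentation Γ(S, V x) Γ(X, W x) := φ.finitePresentation_appLE (hV x) (hW x) (hWV x)
  have hc : Spec.map (CommRingCat.ofHom (algebraMap Γ(S, V x) Γ(X, W x))) ≫ (hV x).fromSpec = (hW x).fromSpec ≫ φ :=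
    (hV x).SpecMap_appLE_fromSpec φ (hW x) (hWV x)
  haveI : GeometricallyReduced (Spec.map (CommRingCat.ofHom (algebraMap Γ(S, V x) Γ(X, W x)))) := by
    refine ⟨fun L _ y Z fst snd hZ => ?_⟩
    haveI := hred L (y ≫ (hV x).fromSpec)
    have h1 := isPullback_comp_mono hZ (hV x).fromSpec
    rw [hc] at h1
    let l : Z ⟶ pullback φ (y ≫ (hV x).fromSpec) :=
      pullback.lift (fst ≫ (hW x).fromSpec) snd (by rw [Category.assoc]; exact h1.w)
    have h2 : IsPullback l fst (pullback.fst φ (y ≫ (hV x).fromSpec)) (hW x).fromSpec := by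
      refine IsPullback.of_right ?_ (pullback.lift_fst _ _ _) (IsPullback.of_hasPullback φ (y ≫ (hV x).fromSpec)).flip
      rw [pullback.lift_snd]
      exact h1.flip
    haveI : IsOpenImmersion l := MorphismProperty.of_isPullback h2.flip inferInstance
    exact isReduced_of_isOpenImmersion l
  let K : Type u := S.functionField
  let ι := Spec.map (CommRingCat.ofHom (Algebra.TensorProduct.includeRight :
    Γ(X, W x) →ₐ[Γ(S, V x)] K ⊗[Γ(S, V x)] Γ(X, W x)).toRingHom)
  let incL := Spec.map (CommRingCat.ofHom (Algebra.TensorProduct.includeLeftRingHom :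
    K →+* K ⊗[Γ(S, V x)] Γ(X, W x)))
  let η := S.fromSpecStalk (genericPoint S)
  have hη' : Spec.map (CommRingCat.ofHom (algebraMap Γ(S, V x) K)) ≫ (hV x).fromSpec = η :=
    (hV x).fromSpecStalk_eq_fromSpecStalk _
  have sq₀ : IsPullback ι incL ((hW x).fromSpec ≫ φ) η := by
    have h0 : IsPullback incL ι (Spec.map (CommRingCat.ofHom (algebraMap Γ(S, V x) K)))
        (Spec.map (CommRingCat.ofHom (algebraMap Γ(S, V x) Γ(X, W x)))) :=
      isPullback_SpecMap_of_isPushout _ _ _ _ (CommRingCat.isPushout_tensorProduct _ _ _)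
    rw [← hc, ← hη']
    exact (isPullback_comp_mono h0 (hV x).fromSpec).flip
  let h := pullback.lift (ι ≫ (hW x).fromSpec) incL (by rw [Category.assoc]; exact sq₀.w)
  have hh : h ≫ pullback.fst φ η = ι ≫ (hW x).fromSpec := pullback.lift_fst _ _ _
  have sqA : IsPullback h ι (pullback.fst φ η) (hW x).fromSpec := by
    refine IsPullback.of_right ?_ hh (IsPullback.of_hasPullback φ η).flip
    rw [pullback.lift_snd]
    exact sq₀.flip
  let fW := pullback.snd f (hW x).fromSpec
  let m : pullback fW ι ⟶ pullback f (pullback.fst φ η) :=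
    pullback.lift (pullback.fst fW ι ≫ pullback.fst f (hW x).fromSpec) (pullback.snd fW ι ≫ h) (by
      rw [Category.assoc, Category.assoc, hh, pullback.condition, ← Category.assoc, pullback.condition, Category.assoc])
  have h3 : IsPullback m (pullback.snd fW ι) (pullback.snd f (pullback.fst φ η)) h := by
    refine IsPullback.of_right ?_ (pullback.lift_snd _ _ _) (IsPullback.of_hasPullback f (pullback.fst φ η))
    rw [pullback.lift_fst, hh]
    exact (IsPullback.of_hasPullback fW ι).paste_horiz (IsPullback.of_hasPullback f (hW x).fromSpec)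
  have h4 : IsPullback m (pullback.fst fW ι) (pullback.fst f (pullback.fst φ η)) (pullback.fst f (hW x).fromSpec) := by
    refine IsPullback.of_right ?_ (pullback.lift_fst _ _ _) (IsPullback.of_hasPullback f (pullback.fst φ η)).flip
    rw [pullback.lift_snd, pullback.condition]
    exact (IsPullback.of_hasPullback fW ι).flip.paste_horiz sqA
  haveI : IsIso (pullback.snd fW ι) := MorphismProperty.of_isPullback (P := MorphismProperty.isomorphisms Scheme.{u}) h3 hη
  haveI : IsSchemeTheoreticallyDominant (pullback.fst fW ι) := IsSchemeTheoreticallyDominant.of_isPullback h4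
  haveI : IsIntegralHom fW := MorphismProperty.pullback_snd _ _ inferInstance
  haveI : IsIso fW := isIso_affine Γ(S, V x) Γ(X, W x) K fW inferInstance inferInstance
  have h5 : IsPullback (f ⁻¹ᵁ W x).ι (f ∣_ W x ≫ (hW x).isoSpec.hom) f (hW x).fromSpec :=
    (isPullback_morphismRestrict f (W x)).flip.of_iso (Iso.refl _) (Iso.refl _) (hW x).isoSpec (Iso.refl _)
      (by simp) (by simp) (by simp) (by rw [Iso.refl_hom, Category.comp_id, ← (hW x).isoSpec_inv_ι, Iso.hom_inv_id_assoc])
  haveI : IsIso (f ∣_ W x ≫ (hW x).isoSpec.hom) := by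
    rw [← h5.isoPullback_hom_snd]
    infer_instance
  exact IsIso.of_isIso_comp_right _ (hW x).isoSpec.hom

end Groth.Agent.EtaMod
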