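import Groth.Agent.EtaMod.Global
import Groth.Agent.NormCurve.Normal
import Groth.Agent.Chow17.Core
import Groth.Agent.AlgSpPts.Sep
import Groth.Agent.Triage.SchDense
import Groth.Agent.S0429
import Groth.Agent.S7382
import Groth.Agent.MorLib.Birat

/-!
# Finite modifications of flat schemes become isomorphic after a finite modification of the base
-/

set_option autoImplicit false
set_option backward.isDefEq.respectTransparency false
set_option backward.isDefEq.respectTransparency.types false
set_option linter.style.haveILetI false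
set_option maxHeartbeats 800000

universe u

open CategoryTheory Limits AlgebraicGeometry TopologicalSpace Opposite

namespace Groth.Agent.EtaMod

/-- Morphisms to a separated scheme agreeing on a schematically dense subscheme agree. -/
theorem ext_of_dominant {W X Y Z : Scheme.{u}} {a b : X ⟶ Y} (s : Y ⟶ Z) [IsSeparated s] (h : a ≫ s = b ≫ s)
    (w : W ⟶ X) [IsSchemeTheoreticallyDominant w] (hw : w ≫ a = w ≫ b) : a = b := by
  obtain ⟨d, hd⟩ := Chow17.exists_lift w (pullback.diagonal s) (pullback.lift a b h) (w ≫ a) (by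
    apply pullback.hom_ext
    · simp
    · simp [hw])
  have h1 := hd =≫ pullback.fst s s
  have h2 := hd =≫ pullback.snd s s
  simp only [Category.assoc, pullback.diagonal_fst, pullback.diagonal_snd, pullback.lift_fst, pullback.lift_snd,
    Category.comp_id] at h1 h2
  exact h1.symm.trans h2

/-- Lifts over a part where a morphism is an isomorphism are unique. -/
theorem hom_ext_generic {T Y Z J : Scheme.{u}} (h : Y ⟶ Z) (j : J ⟶ Z) [IsIso (pullback.snd h j)]
    {a b : T ⟶ Y} (c : T ⟶ J) (ha : a ≫ h = c ≫ j) (hb : b ≫ h = c ≫ j) : a = b := by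
  have : pullback.lift a c ha = pullback.lift b c hb := by
    rw [← cancel_mono (pullback.snd h j), pullback.lift_snd, pullback.lift_snd]
  simpa using this =≫ pullback.fst h j

theorem fromSpecStalk_factor {S T : Scheme.{u}} (g : T ⟶ S) (t : T) (y : S) (h : g t = y) :
    ∃ σ : Spec (T.presheaf.stalk t) ⟶ Spec (S.presheaf.stalk y), σ ≫ S.fromSpecStalk y = T.fromSpecStalk t ≫ g := by
  subst h
  exact ⟨Spec.map (g.stalkMap t), Scheme.SpecMap_stalkMap_fromSpecStalk g⟩

theorem generic_factor {S T : Scheme.{u}} [IsIntegral S] [IsIntegral T] (g : T ⟶ S) [IsDominant g] :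
    ∃ σ : Spec (T.presheaf.stalk (genericPoint T)) ⟶ Spec (S.presheaf.stalk (genericPoint S)),
      σ ≫ S.fromSpecStalk (genericPoint S) = T.fromSpecStalk (genericPoint T) ≫ g := by
  refine fromSpecStalk_factor g _ _ ?_
  have h : IsGenericPoint (g (genericPoint T)) (closure (g '' (Set.univ : Set T))) :=
    (genericPoint_spec T).image g.continuous
  rw [Set.image_univ, g.denseRange.closure_eq] at h
  exact h.eq (genericPoint_spec S)

variable {S X : Scheme.{u}} [IsIntegral S]

/-- The generic fibre of a base change still has an isomorphism. -/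
theorem isIso_generic_baseChange (φ : X ⟶ S) {X₁ : Scheme.{u}} (f : X₁ ⟶ X)
    (hη : IsIso (pullback.snd f (pullback.fst φ (S.fromSpecStalk (genericPoint S)))))
    {T : Scheme.{u}} [IsIntegral T] (g : T ⟶ S) [IsDominant g] :
    IsIso (pullback.snd (pullback.snd f (pullback.fst φ g))
      (pullback.fst (pullback.snd φ g) (T.fromSpecStalk (genericPoint T)))) := by
  obtain ⟨σ, hσ⟩ := generic_factor g
  let j := pullback.fst φ (S.fromSpecStalk (genericPoint S))
  let a := pullback.fst (pullback.snd φ g) (T.fromSpecStalk (genericPoint T))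
  let fT := pullback.snd f (pullback.fst φ g)
  let k : pullback (pullback.snd φ g) (T.fromSpecStalk (genericPoint T)) ⟶
      pullback φ (S.fromSpecStalk (genericPoint S)) :=
    pullback.lift (a ≫ pullback.fst φ g) (pullback.snd _ _ ≫ σ) (by
      rw [Category.assoc, Category.assoc, hσ, pullback.condition, ← Category.assoc, pullback.condition, Category.assoc])
  have hk : k ≫ j = a ≫ pullback.fst φ g := pullback.lift_fst _ _ _
  have h1 : IsPullback (pullback.fst fT a ≫ pullback.fst f (pullback.fst φ g)) (pullback.snd fT a) f (k ≫ j) := by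
    rw [hk]
    exact (IsPullback.of_hasPullback fT a).paste_horiz (IsPullback.of_hasPullback f (pullback.fst φ g))
  let m := pullback.lift (f := f) (g := j) (pullback.fst fT a ≫ pullback.fst f (pullback.fst φ g))
    (pullback.snd fT a ≫ k) (by rw [Category.assoc]; exact h1.w.trans (Category.assoc _ _ _).symm)
  have h2 : IsPullback m (pullback.snd fT a) (pullback.snd f j) k := by
    refine IsPullback.of_right ?_ (pullback.lift_snd _ _ _) (IsPullback.of_hasPullback f j)
    rw [pullback.lift_fst]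
    exact h1
  exact MorphismProperty.of_isPullback (P := MorphismProperty.isomorphisms Scheme.{u}) h2 hη

/-- Morphisms over the ambient scheme between modifications are unique. -/
theorem hom_unique [QuasiSeparatedSpace S] (φ : X ⟶ S) {X₁ X₂ : Scheme.{u}} (f₁ : X₁ ⟶ X) (f₂ : X₂ ⟶ X)
    [IsSeparated f₂] [Flat (f₁ ≫ φ)]
    (hη₂ : IsIso (pullback.snd f₂ (pullback.fst φ (S.fromSpecStalk (genericPoint S)))))
    {a b : X₁ ⟶ X₂} (ha : a ≫ f₂ = f₁) (hb : b ≫ f₂ = f₁) : a = b := by
  haveI := hη₂
  haveI := dominant_generic (f₁ ≫ φ)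
  let η := S.fromSpecStalk (genericPoint S)
  let c : pullback (f₁ ≫ φ) η ⟶ pullback φ η :=
    pullback.lift (pullback.fst _ _ ≫ f₁) (pullback.snd _ _) (by rw [Category.assoc]; exact pullback.condition)
  exact ext_of_dominant f₂ (ha.trans hb.symm) (pullback.fst (f₁ ≫ φ) η)
    (hom_ext_generic f₂ (pullback.fst φ η) c
      (by rw [Category.assoc, ha, pullback.lift_fst]) (by rw [Category.assoc, hb, pullback.lift_fst]))

/-- Over a normal base there is a morphism between finite modifications. -/
theorem exists_hom_normal [QuasiSeparatedSpace S] (hS : Pi1.IsNormalScheme S) (φ : X ⟶ S) {X₁ X₂ : Scheme.{u}}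
    (f₁ : X₁ ⟶ X) (f₂ : X₂ ⟶ X) [IsSeparated f₁] [QuasiCompact f₁] [IsIntegralHom f₂] [Flat (f₁ ≫ φ)]
    [LocallyOfFinitePresentation (f₁ ≫ φ)]
    (hred : ∀ (K : Type u) [Field K] (k : Spec (CommRingCat.of K) ⟶ S),
      AlgebraicGeometry.IsReduced (pullback (f₁ ≫ φ) k))
    (hη₂ : IsIso (pullback.snd f₂ (pullback.fst φ (S.fromSpecStalk (genericPoint S))))) :
    ∃ a : X₁ ⟶ X₂, a ≫ f₂ = f₁ := by
  let η := S.fromSpecStalk (genericPoint S)
  haveI := hη₂
  let q := f₁ ≫ φ
  let j₁ := pullback.fst q η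
  let b : pullback q η ⟶ pullback φ η :=
    pullback.lift (j₁ ≫ f₁) (pullback.snd _ _) (by rw [Category.assoc]; exact pullback.condition)
  let d : pullback q η ⟶ X₂ := b ≫ inv (pullback.snd f₂ (pullback.fst φ η)) ≫ pullback.fst _ _
  have hd : d ≫ f₂ = j₁ ≫ f₁ := by
    simp only [d, Category.assoc, pullback.condition, IsIso.inv_hom_id_assoc]
    exact pullback.lift_fst _ _ _
  let w := pullback.lift (f := f₁) (g := f₂) j₁ d hd.symm
  haveI : QuasiCompact j₁ := MorphismProperty.pullback_fst _ _ inferInstance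
  haveI : QuasiCompact w := by
    haveI : QuasiCompact (w ≫ pullback.fst f₁ f₂) := by rw [pullback.lift_fst]; infer_instance
    exact QuasiCompact.of_comp w (pullback.fst f₁ f₂)
  haveI : IsIntegralHom (pullback.fst f₁ f₂) := MorphismProperty.pullback_fst _ _ inferInstance
  let p := w.imageι ≫ pullback.fst f₁ f₂
  let u := pullback.fst p (pullback.fst q η)
  let v := pullback.snd p (pullback.fst q η)
  have huv : u ≫ p = v ≫ j₁ := pullback.condition
  let σ := pullback.lift (f := p) (g := pullback.fst q η) w.toImage (𝟙 _) (by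
    rw [Category.id_comp, ← Category.assoc, w.toImage_imageι, pullback.lift_fst])
  have hσv : σ ≫ v = 𝟙 _ := pullback.lift_snd _ _ _
  have hu : v ≫ w.toImage = u := by
    rw [← cancel_mono w.imageι, Category.assoc, w.toImage_imageι]
    apply pullback.hom_ext
    · rw [Category.assoc, pullback.lift_fst, ← huv, Category.assoc]
    · refine hom_ext_generic f₂ (pullback.fst φ η) (v ≫ b) ?_ ?_
      · rw [Category.assoc, Category.assoc, ← Category.assoc w, pullback.lift_snd, hd, Category.assoc, pullback.lift_fst]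
      · rw [Category.assoc, ← pullback.condition, Category.assoc v, pullback.lift_fst, ← Category.assoc v, ← huv]
        simp [p]
  haveI : IsIso v := ⟨σ, by
    apply pullback.hom_ext
    · rw [Category.assoc, pullback.lift_fst, Category.id_comp, hu]
    · rw [Category.assoc, hσv, Category.id_comp, Category.comp_id], hσv⟩
  have hdom : IsSchemeTheoreticallyDominant u := by
    haveI := Triage.SchDense.isSchemeTheoreticallyDominant_toImage w
    rw [← hu]
    infer_instance
  haveI := isIso_of_generic hS q hred p hdom inferInstance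
  refine ⟨inv p ≫ w.imageι ≫ pullback.snd f₁ f₂, ?_⟩
  rw [Category.assoc, Category.assoc, ← pullback.condition, IsIso.inv_comp_eq]
  simp [p]

/-- A morphism between finite modifications exists after a finite modification of the base. -/
theorem exists_hom_finite [CompactSpace S] [QuasiSeparatedSpace S] (φ : X ⟶ S) [LocallyOfFiniteType φ]
    [QuasiCompact φ] [QuasiSeparated φ] {X₁ X₂ : Scheme.{u}} (f₁ : X₁ ⟶ X) (f₂ : X₂ ⟶ X) [IsFinite f₁] [IsFinite f₂]
    [Flat (f₁ ≫ φ)] [Flat (f₂ ≫ φ)]
    (hred : ∀ (K : Type u) [Field K] (k : Spec (CommRingCat.of K) ⟶ S),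
      AlgebraicGeometry.IsReduced (pullback (f₁ ≫ φ) k))
    (hη₂ : IsIso (pullback.snd f₂ (pullback.fst φ (S.fromSpecStalk (genericPoint S))))) :
    ∃ (T : Scheme.{u}) (g : T ⟶ S) (t : Spec (S.presheaf.stalk (genericPoint S)) ⟶ T),
      IsFinite g ∧ t ≫ g = S.fromSpecStalk (genericPoint S) ∧
      ∃ a : pullback (f₁ ≫ φ) g ⟶ X₂, a ≫ f₂ = pullback.fst (f₁ ≫ φ) g ≫ f₁ := by
  let η := S.fromSpecStalk (genericPoint S)
  haveI : QuasiSeparated η := QuasiSeparated.of_quasiSeparatedSpace η
  haveI : IsIntegral (Spec (S.presheaf.stalk (genericPoint S))) :=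
    inferInstanceAs (IsIntegral (Spec S.functionField))
  haveI : IsDominant η := by
    rw [isDominant_iff]
    intro y
    have : genericPoint S ∈ Set.range η := by
      rw [Scheme.range_fromSpecStalk]
      exact specializes_rfl
    exact closure_mono (Set.singleton_subset_iff.2 this) (genericPoint_specializes y).mem_closure
  have hN : Pi1.IsNormalScheme η.normalization := NormCurve.isNormalScheme_normalization S
  let ν := η.fromNormalization
  haveI : IsDominant ν := by
    haveI : IsDominant (η.toNormalization ≫ ν) := by rw [Scheme.Hom.toNormalization_fromNormalization]; infer_instance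
    exact IsDominant.of_comp η.toNormalization ν
  haveI : QuasiSeparatedSpace η.normalization := quasiSeparatedSpace_of_quasiSeparated ν
  let fN₁ := pullback.snd f₁ (pullback.fst φ ν)
  let fN₂ := pullback.snd f₂ (pullback.fst φ ν)
  let φN := pullback.snd φ ν
  have hq : IsPullback (pullback.fst f₁ (pullback.fst φ ν)) (fN₁ ≫ φN) (f₁ ≫ φ) ν :=
    (IsPullback.of_hasPullback f₁ (pullback.fst φ ν)).paste_vert (IsPullback.of_hasPullback φ ν)
  haveI : LocallyOfFinitePresentation (f₁ ≫ φ) := S0429.result _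
  haveI : Flat (fN₁ ≫ φN) := MorphismProperty.of_isPullback hq ‹Flat (f₁ ≫ φ)›
  haveI : LocallyOfFinitePresentation (fN₁ ≫ φN) :=
    MorphismProperty.of_isPullback hq ‹LocallyOfFinitePresentation (f₁ ≫ φ)›
  have hredN : ∀ (K : Type u) [Field K] (k : Spec (CommRingCat.of K) ⟶ η.normalization),
      AlgebraicGeometry.IsReduced (pullback (fN₁ ≫ φN) k) := fun K _ k => by
    haveI := hred K (k ≫ ν)
    have h := (IsPullback.of_hasPullback (fN₁ ≫ φN) k).paste_horiz hq
    exact isReduced_of_isOpenImmersion h.isoPullback.hom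
  obtain ⟨aN, haN⟩ := exists_hom_normal hN φN fN₁ fN₂ hredN (isIso_generic_baseChange φ f₂ hη₂ ν)
  -- descend along the finite modifications
  obtain ⟨I, _, _, _, D, c, hc, hD, ⟨e⟩⟩ := S7382.result ν
  haveI : IsCofiltered Iᵒᵖ := inferInstance
  haveI : IsConnected Iᵒᵖ := IsCofiltered.isConnected _
  haveI : ∀ i, IsFinite (D.obj i).hom := fun i => (hD i).1
  let q₁ := f₁ ≫ φ
  let E : Iᵒᵖ ⥤ Over X₁ := D ⋙ Over.pullback q₁
  let cE : Cone E := (Over.pullback q₁).mapCone c
  haveI : PreservesLimitsOfSize.{u, u} (Over.pullback q₁) := (Over.mapPullbackAdj q₁).rightAdjoint_preservesLimits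
  have hcE : IsLimit ((Over.forget X₁).mapCone cE) :=
    isLimitOfPreserves (Over.forget X₁) (isLimitOfPreserves (Over.pullback q₁) hc)
  let E' := E ⋙ Over.forget X₁
  haveI : ∀ {i j} (h : i ⟶ j), IsFinite ((D.map h).left) := fun {i j} h => by
    haveI : IsFinite ((D.map h).left ≫ (D.obj j).hom) := by rw [Over.w (D.map h)]; infer_instance
    exact IsFinite.of_comp _ (D.obj j).hom
  haveI : ∀ i, CompactSpace (E'.obj i) := fun i => by
    haveI : CompactSpace X₁ := QuasiCompact.compactSpace_of_compactSpace q₁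
    haveI : QuasiCompact (pullback.snd (D.obj i).hom q₁) := inferInstance
    exact QuasiCompact.compactSpace_of_compactSpace (pullback.snd (D.obj i).hom q₁)
  haveI : ∀ i, QuasiSeparatedSpace (E'.obj i) := fun i => by
    haveI : QuasiSeparatedSpace X₁ := quasiSeparatedSpace_of_quasiSeparated q₁
    exact quasiSeparatedSpace_of_quasiSeparated (pullback.snd (D.obj i).hom q₁)
  haveI : ∀ {i j} (h : i ⟶ j), IsAffineHom (E'.map h) := fun {i j} h => by
    haveI : IsAffineHom (pullback.snd (D.obj i).hom q₁) := MorphismProperty.pullback_snd _ _ inferInstance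
    haveI : IsSeparated (pullback.snd (D.obj j).hom q₁) := MorphismProperty.pullback_snd _ _ inferInstance
    haveI : IsAffineHom (E'.map h ≫ pullback.snd (D.obj j).hom q₁) := by
      rw [show E'.map h ≫ pullback.snd (D.obj j).hom q₁ = pullback.snd (D.obj i).hom q₁ from Over.w (E.map h)]
      infer_instance
    exact IsAffineHom.of_comp (E'.map h) (pullback.snd (D.obj j).hom q₁)
  let t : E' ⟶ (Functor.const _).obj X :=
    { app := fun i => pullback.snd (D.obj i).hom q₁ ≫ f₁
      naturality := fun i j h => by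
        show E'.map h ≫ pullback.snd (D.obj j).hom q₁ ≫ f₁ = (pullback.snd (D.obj i).hom q₁ ≫ f₁) ≫ 𝟙 _
        rw [Category.comp_id, ← Category.assoc]
        exact congrArg (· ≫ f₁) (Over.w (E.map h)) }
  haveI : LocallyOfFinitePresentation (f₂ ≫ φ) := S0429.result _
  haveI : LocallyOfFinitePresentation f₂ := AlgSpPts.locallyOfFinitePresentation_of_comp f₂ φ
  have hpt : c.pt.hom = e.hom.left ≫ ν := (Over.w e.hom).symm
  let ψ : pullback c.pt.hom q₁ ⟶ pullback f₁ (pullback.fst φ ν) :=
    hq.lift (pullback.snd c.pt.hom q₁) (pullback.fst c.pt.hom q₁ ≫ e.hom.left) (by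
      rw [Category.assoc, ← hpt]; exact pullback.condition.symm)
  let a : ((Over.forget X₁).mapCone cE).pt ⟶ X₂ := ψ ≫ aN ≫ pullback.fst f₂ (pullback.fst φ ν)
  have ha : a ≫ f₂ = pullback.snd c.pt.hom q₁ ≫ f₁ := by
    have h1 : ψ ≫ pullback.fst f₁ (pullback.fst φ ν) = pullback.snd c.pt.hom q₁ := hq.lift_fst _ _ _
    rw [← h1]
    simp only [a, Category.assoc, pullback.condition]
    rw [reassoc_of% haN]
  obtain ⟨i, a₀, -, ha₀⟩ := Scheme.exists_π_app_comp_eq_of_locallyOfFinitePresentation E' t f₂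
    ((Over.forget X₁).mapCone cE) hcE a (by
      ext i : 2
      show (cE.π.app i).left ≫ pullback.snd (D.obj i).hom q₁ ≫ f₁ = a ≫ f₂
      rw [ha, ← Category.assoc]
      exact congrArg (· ≫ f₁) (Over.w (cE.π.app i)))
  refine ⟨(D.obj i).left, (D.obj i).hom, η.toNormalization ≫ e.inv.left ≫ (c.π.app i).left, inferInstance, ?_,
    (pullbackSymmetry q₁ (D.obj i).hom).hom ≫ a₀, ?_⟩
  · rw [Category.assoc, Category.assoc, Over.w (c.π.app i)]
    show η.toNormalization ≫ e.inv.left ≫ c.pt.hom = η
    rw [Over.w e.inv]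
    exact Scheme.Hom.toNormalization_fromNormalization η
  · rw [Category.assoc, ha₀, ← Category.assoc]
    exact congrArg (· ≫ f₁) (pullbackSymmetry_hom_comp_snd q₁ (D.obj i).hom)


/-- A finite morphism from an integral scheme with a point over the generic point of the base, by which it is
schematically dominated, is an isomorphism over a nonempty open. -/
theorem exists_open_isIso {T : Scheme.{u}} [IsIntegral T] (g : T ⟶ S) [IsFinite g]
    (s : Spec (S.presheaf.stalk (genericPoint S)) ⟶ T) [IsSchemeTheoreticallyDominant s] [QuasiCompact s]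
    (hs : s ≫ g = S.fromSpecStalk (genericPoint S)) :
    ∃ V : S.Opens, (V : Set S).Nonempty ∧ IsIso (g ∣_ V) := by
  classical
  obtain ⟨V₀, hV₀, hgV₀, -⟩ := exists_isAffineOpen_mem_and_subset (U := (⊤ : S.Opens)) (x := genericPoint S) trivial
  haveI : Nonempty V₀ := ⟨⟨_, hgV₀⟩⟩
  have hW : IsAffineOpen (g ⁻¹ᵁ V₀) := hV₀.preimage g
  let η := S.fromSpecStalk (genericPoint S)
  let R := Γ(S, V₀)
  let R' := Γ(T, g ⁻¹ᵁ V₀)
  letI : Algebra R R' := (g.app V₀).hom.toAlgebra
  haveI : Module.Finite R R' := IsFinite.finite_app g V₀ hV₀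
  haveI := functionField_isFractionRing_of_isAffineOpen S V₀ hV₀
  have hηtop : η ⁻¹ᵁ V₀ = ⊤ := by
    refine top_le_iff.1 fun x _ => ?_
    have hx : η x ∈ Set.range η := ⟨x, rfl⟩
    rw [Scheme.range_fromSpecStalk] at hx
    exact hx.mem_open V₀.2 hgV₀
  -- sections inject into the function field
  have hle : ⊤ ≤ s ⁻¹ᵁ (g ⁻¹ᵁ V₀) := by
    rw [← Scheme.Hom.comp_preimage, hs, hηtop]
  let χ : R' → S.functionField := fun b => (Scheme.ΓSpecIso (S.presheaf.stalk (genericPoint S))).hom
    (s.appLE (g ⁻¹ᵁ V₀) ⊤ hle b)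
  have hχinj : Function.Injective χ := by
    intro x y hxy
    apply s.app_injective (g ⁻¹ᵁ V₀)
    have h := (ConcreteCategory.bijective_of_isIso (Scheme.ΓSpecIso (S.presheaf.stalk (genericPoint S))).hom).1 hxy
    rw [Scheme.Hom.appLE, CommRingCat.comp_apply, CommRingCat.comp_apply] at h
    have e : s ⁻¹ᵁ (g ⁻¹ᵁ V₀) = ⊤ := top_le_iff.1 hle
    haveI : IsIso ((Spec (S.presheaf.stalk (genericPoint S))).presheaf.map (homOfLE hle).op) := by
      have : homOfLE hle = eqToHom e.symm := Subsingleton.elim _ _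
      rw [this]; infer_instance
    exact (ConcreteCategory.bijective_of_isIso ((Spec (S.presheaf.stalk (genericPoint S))).presheaf.map (homOfLE hle).op)).1 h
  have hχR : ∀ a : R, χ (algebraMap R R' a) = algebraMap R S.functionField a := fun a => by
    show (Scheme.ΓSpecIso _).hom (s.appLE (g ⁻¹ᵁ V₀) ⊤ hle (g.app V₀ a)) = S.presheaf.germ V₀ (genericPoint S) hgV₀ a
    have key : g.app V₀ ≫ s.appLE (g ⁻¹ᵁ V₀) ⊤ hle ≫ (Scheme.ΓSpecIso _).hom =
        S.presheaf.germ V₀ (genericPoint S) hgV₀ := by
      rw [Scheme.Hom.app_eq_appLE, Scheme.Hom.appLE_comp_appLE_assoc]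
      simp only [hs]
      rw [Scheme.Hom.appLE, Scheme.fromSpecStalk_app hgV₀]
      simp only [Category.assoc]
      rw [← Functor.map_comp_assoc]
      erw [show ∀ h : op (⊤ : (Spec (S.presheaf.stalk (genericPoint S))).Opens) ⟶ op ⊤,
        (Spec (S.presheaf.stalk (genericPoint S))).presheaf.map h = 𝟙 _ from fun h => by
          rw [Subsingleton.elim h (𝟙 _), CategoryTheory.Functor.map_id]]
      simp
    exact DFunLike.congr_fun (congrArg CommRingCat.Hom.hom key) a
  have hχmul : ∀ x y, χ (x * y) = χ x * χ y := fun x y => by simp only [χ, map_mul]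
  have hden : ∀ b : R', ∃ r a : R, r ≠ 0 ∧ algebraMap R R' r * b = algebraMap R R' a := fun b => by
    obtain ⟨⟨a, r, hr⟩, h⟩ := IsLocalization.surj (nonZeroDivisors R) (χ b)
    refine ⟨r, a, nonZeroDivisors.ne_zero hr, hχinj ?_⟩
    rw [hχmul, hχR, hχR, mul_comm]
    exact h
  choose r a hr hra using hden
  obtain ⟨G, hG⟩ := (Module.Finite.fg_top : (⊤ : Submodule R R').FG)
  let r₀ := ∏ b ∈ G, r b
  have hr₀ : r₀ ≠ 0 := Finset.prod_ne_zero_iff.2 fun b _ => hr b
  have hall : ∀ x : R', ∃ c : R, algebraMap R R' r₀ * x = algebraMap R R' c := fun x => by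
    have hx : x ∈ Submodule.span R (G : Set R') := hG ▸ Submodule.mem_top
    induction hx using Submodule.span_induction with
    | mem b hb =>
      refine ⟨(∏ b' ∈ G.erase b, r b') * a b, ?_⟩
      rw [map_mul, ← hra b, ← mul_assoc, ← map_mul, Finset.prod_erase_mul _ _ hb]
    | zero => exact ⟨0, by rw [map_zero, mul_zero]⟩
    | add y z _ _ hy hz =>
      obtain ⟨c, hc⟩ := hy; obtain ⟨d, hd⟩ := hz
      exact ⟨c + d, by rw [mul_add, hc, hd, map_add]⟩
    | smul k y _ hy =>
      obtain ⟨c, hc⟩ := hy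
      exact ⟨k * c, by rw [Algebra.smul_def, mul_left_comm, hc, map_mul]⟩
  have hinjR : Function.Injective (algebraMap R R') := fun x y hxy =>
    IsFractionRing.injective R S.functionField (by rw [← hχR, ← hχR, hxy])
  refine ⟨S.basicOpen r₀, ?_, ?_⟩
  · refine ⟨genericPoint S, ?_⟩
    rw [SetLike.mem_coe, Scheme.mem_basicOpen _ _ _ hgV₀]
    exact (isUnit_iff_ne_zero (G₀ := S.functionField)).2 fun h0 =>
      hr₀ (IsFractionRing.injective R S.functionField (h0.trans (map_zero _).symm))
  have hpre : g ⁻¹ᵁ S.basicOpen r₀ = T.basicOpen (algebraMap R R' r₀) := Scheme.preimage_basicOpen g r₀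
  haveI : IsAffine (S.basicOpen r₀).toScheme := hV₀.basicOpen r₀
  haveI : IsAffine (g ⁻¹ᵁ S.basicOpen r₀).toScheme := (hV₀.basicOpen r₀).preimage g
  haveI := hV₀.isLocalization_basicOpen r₀
  haveI := hW.isLocalization_basicOpen (algebraMap R R' r₀)
  let ρS : R →+* Γ(S, S.basicOpen r₀) := algebraMap R Γ(S, S.basicOpen r₀)
  let β : Γ(S, S.basicOpen r₀) →+* Γ(T, T.basicOpen (algebraMap R R' r₀)) :=
    (g.appLE (S.basicOpen r₀) (T.basicOpen (algebraMap R R' r₀)) hpre.ge).hom
  have hβ : ∀ x : R, β (ρS x) = algebraMap R' Γ(T, T.basicOpen (algebraMap R R' r₀)) (algebraMap R R' x) := fun x => by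
    show g.appLE _ _ _ (S.presheaf.map (homOfLE (S.basicOpen_le r₀)).op x) =
      T.presheaf.map (homOfLE (T.basicOpen_le _)).op (g.app V₀ x)
    rw [← CommRingCat.comp_apply, ← CommRingCat.comp_apply, Scheme.Hom.map_appLE, Scheme.Hom.app_eq_appLE,
      Scheme.Hom.appLE_map]
  have hbij : Function.Bijective β := by
    constructor
    · refine (injective_iff_map_eq_zero _).2 fun z hz => ?_
      obtain ⟨x, ⟨_, n, rfl⟩, rfl⟩ := IsLocalization.exists_mk'_eq (Submonoid.powers r₀) z
      have h := congrArg (fun w => w * β (ρS (r₀ ^ n))) hz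
      simp only [zero_mul] at h
      rw [← map_mul, IsLocalization.mk'_spec, hβ, IsLocalization.map_eq_zero_iff (Submonoid.powers (algebraMap R R' r₀))] at h
      obtain ⟨⟨_, m, rfl⟩, hm⟩ := h
      change algebraMap R R' r₀ ^ m * _ = 0 at hm
      rw [← map_pow, ← map_mul, map_eq_zero_iff _ hinjR] at hm
      rw [IsLocalization.mk'_eq_zero_iff]
      exact ⟨⟨_, m, rfl⟩, hm⟩
    · intro w
      obtain ⟨x, ⟨_, n, rfl⟩, rfl⟩ := IsLocalization.exists_mk'_eq (Submonoid.powers (algebraMap R R' r₀)) w
      obtain ⟨c, hc⟩ := hall x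
      let z : Γ(S, S.basicOpen r₀) := IsLocalization.mk' _ c (⟨r₀ ^ (n + 1), n + 1, rfl⟩ : Submonoid.powers r₀)
      have hz : z * ρS (r₀ ^ (n + 1)) = ρS c := IsLocalization.mk'_spec _ c _
      have hβz := congrArg β hz
      rw [map_mul, hβ, hβ, map_pow, map_pow] at hβz
      refine ⟨z, ?_⟩
      rw [IsLocalization.eq_mk'_iff_mul_eq]
      show β z * algebraMap R' _ (algebraMap R R' r₀ ^ n) = algebraMap R' _ x
      rw [map_pow]
      apply ((IsLocalization.Away.algebraMap_isUnit (S := Γ(T, T.basicOpen (algebraMap R R' r₀))) (algebraMap R R' r₀))).mul_left_cancel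
      rw [← map_mul (algebraMap R' _) _ x, hc, ← hβz]
      ring
  haveI : IsIso (g.app (S.basicOpen r₀)) := by
    have hb : IsIso (g.appLE (S.basicOpen r₀) (T.basicOpen (algebraMap R R' r₀)) hpre.ge) :=
      (ConcreteCategory.isIso_iff_bijective _).2 hbij
    rw [Scheme.Hom.appLE] at hb
    haveI : IsIso (T.presheaf.map (homOfLE hpre.ge).op) := by
      have : homOfLE hpre.ge = eqToHom hpre.symm := Subsingleton.elim _ _
      rw [this]; infer_instance
    exact @IsIso.of_isIso_comp_right _ _ _ _ _ _ _ this hb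
  haveI : IsIso (g.app ((S.basicOpen r₀).ι ''ᵁ ⊤)) := by
    rw [Scheme.Opens.ι_image_top]
    infer_instance
  haveI : IsIso (g ∣_ S.basicOpen r₀).appTop := by
    rw [Scheme.Hom.appTop, morphismRestrict_app]
    infer_instance
  exact MorLib.Birat.isIso_of_appTop _

end Groth.Agent.EtaMod
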