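import Mathlib
import Groth.Agent.AssFiber.Basic
import Groth.Agent.S14359

/-!
# Flat algebras with reduced fibres over normal Noetherian domains are integrally closed in the generic fibre
-/

set_option autoImplicit false
set_option linter.style.haveILetI false

universe u

open IsLocalRing Polynomial TensorProduct

namespace Groth.Agent.EtaMod

/-- A Noetherian local ring whose maximal ideal is generated by a nonzerodivisor is a normal domain. -/
theorem isDomain_and_normal {A : Type u} [CommRing A] [IsLocalRing A] [IsNoetherianRing A] (π : A)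
    (hπ : IsSMulRegular A π) (hm : maximalIdeal A = Ideal.span {π}) :
    IsDomain A ∧ IsIntegrallyClosed A := by
  have hdec : ∀ a : A, a ≠ 0 → ∃ (n : ℕ) (u : A), IsUnit u ∧ a = π ^ n * u := by
    intro a ha
    obtain ⟨n, hn, hn'⟩ : ∃ n, a ∈ maximalIdeal A ^ n ∧ a ∉ maximalIdeal A ^ (n + 1) := by
      by_contra h
      push Not at h
      have hall : ∀ n, a ∈ maximalIdeal A ^ n := fun n => by
        induction n with
        | zero => simp
        | succ n ih => exact h n ih
      exact ha (by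
        simpa [Ideal.iInf_pow_eq_bot_of_isLocalRing _ (maximalIdeal.isMaximal A).ne_top] using
          (Submodule.mem_iInf _).2 hall)
    rw [hm, Ideal.span_singleton_pow, Ideal.mem_span_singleton] at hn
    obtain ⟨u, rfl⟩ := hn
    refine ⟨n, u, ?_, rfl⟩
    by_contra hu
    rw [← mem_nonunits_iff, ← IsLocalRing.mem_maximalIdeal, hm, Ideal.mem_span_singleton] at hu
    obtain ⟨v, rfl⟩ := hu
    exact hn' (by rw [hm, Ideal.span_singleton_pow, Ideal.mem_span_singleton]; exact ⟨v, by ring⟩)
  have hreg : ∀ n, IsSMulRegular A (π ^ n) := fun n => hπ.pow n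
  have : NoZeroDivisors A := ⟨fun {a b} hab => by
    by_contra h
    push Not at h
    obtain ⟨n, u, hu, rfl⟩ := hdec a h.1
    obtain ⟨m, v, hv, rfl⟩ := hdec b h.2
    have h0 : (π ^ (n + m)) • (u * v) = (π ^ (n + m)) • (0 : A) := by
      simp only [smul_eq_mul, mul_zero]
      rw [← hab]; ring
    exact (hu.mul hv).ne_zero (hreg _ h0)⟩
  haveI : IsDomain A := NoZeroDivisors.to_isDomain A
  refine ⟨inferInstance, ?_⟩
  by_cases hF : IsField A
  · letI := hF.toField
    infer_instance
  · haveI : IsDiscreteValuationRing A := ((IsDiscreteValuationRing.TFAE A hF).out 0 4).2 (by rw [hm]; exact ⟨⟨π, rfl⟩⟩)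
    infer_instance

variable {R A : Type u} [CommRing R] [CommRing A] [Algebra R A]

/-- Over a discrete valuation ring with reduced closed fibre a flat algebra is normal at the primes associated
to a nonzero element of the base. -/
theorem mem_span_localization [IsNoetherianRing A] (P : Ideal A) [P.IsPrime] (π : A) (hπ : IsSMulRegular A π)
    (hmin : (maximalIdeal (Localization.AtPrime P)) = Ideal.span {algebraMap A (Localization.AtPrime P) π})
    (r : A) (hr : IsSMulRegular A r) (a : A) (p : A[X]) (hp : p.Monic) (h : (p.scaleRoots r).eval a = 0) :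
    algebraMap A (Localization.AtPrime P) a ∈ Ideal.span {algebraMap A (Localization.AtPrime P) r} := by
  let AP := Localization.AtPrime P
  have hregmap : ∀ x : A, IsSMulRegular A x → IsSMulRegular AP (algebraMap A AP x) :=
    fun x hx => hx.of_flat
  obtain ⟨_, _⟩ := isDomain_and_normal (algebraMap A AP π) (hregmap π hπ) hmin
  let L := FractionRing AP
  let f : A →+* L := (algebraMap AP L).comp (algebraMap A AP)
  have hr0 : algebraMap A AP r ≠ 0 := fun h0 => by
    have h1 : (algebraMap A AP r) • (1 : AP) = (algebraMap A AP r) • (0 : AP) := by simp [h0]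
    exact one_ne_zero (hregmap r hr h1)
  have hfr : f r ≠ 0 := (map_ne_zero_iff _ (IsFractionRing.injective AP L)).2 hr0
  let z : L := f a / f r
  have hz : IsIntegral AP z := by
    refine ⟨p.map (algebraMap A AP), hp.map _, ?_⟩
    rw [Polynomial.eval₂_map]
    show p.eval₂ f z = 0
    have h1 := Polynomial.scaleRoots_eval₂_mul f z r (p := p)
    rw [show f r * z = f a from mul_div_cancel₀ _ hfr, Polynomial.eval₂_at_apply, h, map_zero] at h1
    exact (mul_eq_zero.1 h1.symm).resolve_left (pow_ne_zero _ hfr)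
  obtain ⟨w, hw⟩ := IsIntegrallyClosed.isIntegral_iff.1 hz
  refine Ideal.mem_span_singleton.2 ⟨w, IsFractionRing.injective AP L ?_⟩
  rw [map_mul, hw]
  exact (mul_div_cancel₀ _ hfr).symm

/-- An element of `A` divisible by `r` at the associated primes is divisible by `r`. -/
theorem mem_span_of_locally [IsNoetherianRing A] (r a : A)
    (h : ∀ (P : Ideal A) [P.IsPrime], IsAssociatedPrime P (A ⧸ Ideal.span {r}) →
      algebraMap A (Localization.AtPrime P) a ∈ Ideal.span {algebraMap A (Localization.AtPrime P) r}) :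
    a ∈ Ideal.span {r} := by
  by_contra hna
  let x : A ⧸ Ideal.span {r} := Ideal.Quotient.mk _ a
  have hx : x ≠ 0 := fun h0 => hna (Ideal.Quotient.eq_zero_iff_mem.1 h0)
  obtain ⟨P, hP, hle⟩ := exists_le_isAssociatedPrime_of_isNoetherianRing A x hx
  haveI := hP.isPrime
  obtain ⟨w, hw⟩ := Ideal.mem_span_singleton.1 (h P hP)
  obtain ⟨w', s, rfl⟩ := IsLocalization.exists_mk'_eq P.primeCompl w
  rw [IsLocalization.mul_mk'_eq_mk'_of_mul, IsLocalization.eq_mk'_iff_mul_eq, ← map_mul,
    IsLocalization.eq_iff_exists P.primeCompl] at hw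
  obtain ⟨t, ht⟩ := hw
  have hts : ((t : A) * s) ∈ (⊥ : Submodule A (A ⧸ Ideal.span {r})).colon {x} := by
    rw [Submodule.mem_colon_singleton, Submodule.mem_bot]
    show Ideal.Quotient.mk _ ((t : A) * s) * Ideal.Quotient.mk _ a = 0
    rw [← map_mul, Ideal.Quotient.eq_zero_iff_mem, Ideal.mem_span_singleton]
    exact ⟨(t : A) * w', by linear_combination ht⟩
  exact (t * s : P.primeCompl).2 (hle hts)

/-- The kernel of the map to a fibre. -/
theorem exists_smul_mem_of_tmul_eq_zero {R : Type u} [CommRing R] (p : Ideal R) [p.IsPrime]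
    {N : Type u} [AddCommGroup N] [Module R N] (n : N)
    (h : (1 : p.ResidueField) ⊗ₜ[R] n = 0) : ∃ c ∉ p, c • n ∈ p • (⊤ : Submodule R N) := by
  have := AssFiber.isLocalizedModule_residueField p
  have h2 : TensorProduct.AlgebraTensorModule.rTensor R N
      ((Algebra.linearMap (R ⧸ p) p.ResidueField).restrictScalars R) ((1 : R ⧸ p) ⊗ₜ[R] n) = 0 := by
    simpa using h
  obtain ⟨c, hc⟩ := (IsLocalizedModule.eq_zero_iff p.primeCompl _).1 h2
  refine ⟨c, c.2, ?_⟩
  have hc' := congrArg (TensorProduct.quotTensorEquivQuotSMul N p) hc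
  rw [map_zero, Submonoid.smul_def, TensorProduct.smul_tmul', Algebra.smul_def, mul_one,
    Ideal.Quotient.algebraMap_eq, TensorProduct.quotTensorEquivQuotSMul_mk_tmul,
    Submodule.Quotient.mk_eq_zero] at hc'
  exact hc'

/-- In a flat algebra with reduced fibres over a normal Noetherian domain, an element integral over the
algebra after dividing by a nonzero element of the base is divisible by it. -/
theorem mem_span_noeth [IsDomain R] [IsNoetherianRing R] [IsIntegrallyClosed R] [IsNoetherianRing A]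
    [Module.Flat R A] (hred : ∀ (p : Ideal R) [p.IsPrime], _root_.IsReduced (p.Fiber A))
    (r : R) (hr : r ≠ 0) (a : A) (q : A[X]) (hq : q.Monic)
    (h : (q.scaleRoots (algebraMap R A r)).eval a = 0) : a ∈ Ideal.span {algebraMap R A r} := by
  have hreg : ∀ x : R, x ≠ 0 → IsSMulRegular A (algebraMap R A x) := fun x hx =>
    (IsSMulRegular.of_ne_zero hx : IsSMulRegular R x).of_flat
  refine mem_span_of_locally _ a fun P _ hP => ?_
  obtain ⟨-, b, hb⟩ := Submodule.isAssociatedPrime_iff.1 hP
  obtain ⟨b, rfl⟩ := Ideal.Quotient.mk_surjective b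
  have hcolon : ∀ t, t ∈ P ↔ t * b ∈ Ideal.span {algebraMap R A r} := fun t => by
    rw [hb, Submodule.mem_colon_singleton, Submodule.mem_bot, ← Ideal.Quotient.eq_zero_iff_mem, map_mul]
    rfl
  have hbr : b ∉ Ideal.span {algebraMap R A r} := fun hh =>
    (hP.isPrime.ne_top) ((Ideal.eq_top_iff_one _).2 ((hcolon 1).2 (by rwa [one_mul])))
  let p := P.comap (algebraMap R A)
  have hrp : r ∈ p := (hcolon _).2 (Ideal.mul_mem_right _ _ (Ideal.mem_span_singleton_self _))
  -- the contraction is an associated prime of `R / r`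
  have hsub : ∀ s ∈ p, ¬ IsSMulRegular (R ⧸ Ideal.span {r}) s := by
    intro s hs hsreg
    have hinj : Function.Injective (LinearMap.lTensor A ((LinearMap.lsmul R (R ⧸ Ideal.span {r})) s)) :=
      Module.Flat.lTensor_preserves_injective_linearMap _ hsreg
    let e := TensorProduct.tensorQuotEquivQuotSMul A (Ideal.span {r})
    apply hbr
    have hs' := (hcolon _).1 hs
    have h0 : (Submodule.Quotient.mk (s • b) : A ⧸ (Ideal.span {r} • (⊤ : Submodule R A))) = 0 := by
      rw [Submodule.Quotient.mk_eq_zero, Submodule.ideal_span_singleton_smul, Algebra.smul_def]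
      obtain ⟨c, hc⟩ := Ideal.mem_span_singleton.1 hs'
      exact ⟨c, trivial, by rw [hc]; exact (Algebra.smul_def r c)⟩
    have h1 : LinearMap.lTensor A ((LinearMap.lsmul R (R ⧸ Ideal.span {r})) s) (b ⊗ₜ[R] 1) = 0 := by
      apply e.injective
      rw [map_zero, LinearMap.lTensor_tmul, LinearMap.lsmul_apply, TensorProduct.tmul_smul, map_smul]
      show s • e (b ⊗ₜ[R] Ideal.Quotient.mk _ 1) = 0
      rw [TensorProduct.tensorQuotEquivQuotSMul_tmul_mk, one_smul, ← Submodule.Quotient.mk_smul, h0]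
    have h2 := congrArg e (hinj (h1.trans (map_zero _).symm))
    rw [map_zero] at h2
    change e (b ⊗ₜ[R] Ideal.Quotient.mk _ 1) = 0 at h2
    rw [TensorProduct.tensorQuotEquivQuotSMul_tmul_mk, one_smul, Submodule.Quotient.mk_eq_zero,
      Submodule.ideal_span_singleton_smul] at h2
    obtain ⟨c, -, hc⟩ := h2
    exact Ideal.mem_span_singleton.2 ⟨c, hc.symm.trans (Algebra.smul_def r c)⟩
  have hfin : (associatedPrimes R (R ⧸ Ideal.span {r})).Finite := associatedPrimes.finite R _
  obtain ⟨q₁, hq₁, hpq⟩ : ∃ q₁ ∈ associatedPrimes R (R ⧸ Ideal.span {r}), p ≤ q₁ := by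
    by_contra hcon
    push Not at hcon
    haveI : ∀ q₁ : hfin.toFinset, q₁.1.IsPrime := fun q₁ => (hfin.mem_toFinset.1 q₁.2).isPrime
    obtain ⟨s, hs, hsn⟩ : ∃ s ∈ p, ∀ q₁ ∈ associatedPrimes R (R ⧸ Ideal.span {r}), s ∉ q₁ := by
      by_contra hcon'
      push Not at hcon'
      have hsub' : (p : Set R) ⊆ ⋃ i ∈ (↑hfin.toFinset : Set (Ideal R)), (id i : Ideal R) := fun s hs => by
        obtain ⟨q₁, hq₁, hsq⟩ := hcon' s hs
        exact Set.mem_biUnion (hfin.mem_toFinset.2 hq₁) hsq
      obtain ⟨i, hi, hpi⟩ := (Ideal.subset_union_prime ⊥ ⊥ fun i hi _ _ => (hfin.mem_toFinset.1 hi).isPrime).1 hsub'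
      exact hcon i (hfin.mem_toFinset.1 hi) hpi
    refine hsub s hs ?_
    rw [IsSMulRegular]
    refine (injective_iff_map_eq_zero ((LinearMap.lsmul R (R ⧸ Ideal.span {r})) s)).2 fun x hx => ?_
    by_contra hx0
    have hmem : s ∈ ⋃ q₁ ∈ associatedPrimes R (R ⧸ Ideal.span {r}), (q₁ : Set R) := by
      rw [biUnion_associatedPrimes_eq_zero_divisors]
      exact ⟨x, hx0, hx⟩
    obtain ⟨q₁, hq₁, hsq⟩ := Set.mem_iUnion₂.1 hmem
    exact hsn q₁ hq₁ hsq
  have hht : q₁.height = 1 := S14359.result R r hr q₁ hq₁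
  haveI := hq₁.isPrime
  have hbot : p ≠ ⊥ := fun h0 => hr ((Submodule.mem_bot R).1 (h0 ▸ hrp))
  haveI : p.IsPrime := inferInstance
  haveI : q₁.FiniteHeight := (q₁.finiteHeight_iff).mpr (Or.inr (by rw [hht]; exact ENat.one_ne_top))
  have hne0 : ∀ (I : Ideal R) [I.IsPrime], I ≠ ⊥ → I ≤ q₁ → I = q₁ := fun I _ hI hle => by
    haveI : I.FiniteHeight := I.finiteHeight_iff.mpr (Or.inr
      (lt_of_le_of_lt (Ideal.height_mono hle) (by rw [hht]; exact ENat.one_lt_top)).ne)
    refine I.eq_of_le_of_height_le hle ?_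
    rw [hht, Order.one_le_iff_ne_zero]
    exact fun h0 => hI (Ideal.height_eq_zero_iff_eq_bot.1 h0)
  have hpeq : p = q₁ := hne0 p hbot hpq
  -- the local ring of `R` at `p` is a discrete valuation ring
  let Rp := Localization.AtPrime p
  haveI : IsIntegrallyClosed Rp := isIntegrallyClosed_of_isLocalization Rp p.primeCompl p.primeCompl_le_nonZeroDivisors
  have hinj : Function.Injective (algebraMap R Rp) := IsLocalization.injective Rp p.primeCompl_le_nonZeroDivisors
  have hrm : algebraMap R Rp r ∈ maximalIdeal Rp := (IsLocalization.AtPrime.to_map_mem_maximal_iff Rp p r).2 hrp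
  have hFld : ¬ IsField Rp := fun hF => hr ((map_eq_zero_iff _ hinj).1 (by
    have : maximalIdeal Rp = ⊥ := IsLocalRing.isField_iff_maximalIdeal_eq.1 hF
    rwa [this, Submodule.mem_bot] at hrm))
  haveI : IsNoetherianRing Rp := IsLocalization.isNoetherianRing p.primeCompl Rp inferInstance
  haveI : IsDiscreteValuationRing Rp := by
    have h03 : IsDiscreteValuationRing Rp ↔ IsIntegrallyClosed Rp ∧ ∃! P : Ideal Rp, P ≠ ⊥ ∧ P.IsPrime :=
      (IsDiscreteValuationRing.TFAE Rp hFld).out 0 3
    refine h03.2 ⟨inferInstance, maximalIdeal Rp, ⟨?_, inferInstance⟩, ?_⟩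
    · intro h0
      exact hFld (IsLocalRing.isField_iff_maximalIdeal_eq.2 h0)
    · rintro Q ⟨hQ, hQp⟩
      have hle : Q.comap (algebraMap R Rp) ≤ p := fun x hx =>
        (IsLocalization.AtPrime.to_map_mem_maximal_iff Rp p x).1 (IsLocalRing.le_maximalIdeal hQp.ne_top hx)
      have hne : Q.comap (algebraMap R Rp) ≠ ⊥ := fun h0 => hQ (by
        rw [← IsLocalization.map_comap p.primeCompl Rp Q]; exact (congrArg (Ideal.map _) h0).trans Ideal.map_bot)
      rw [← IsLocalization.map_comap p.primeCompl Rp Q]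
      exact (congrArg (Ideal.map _) ((hne0 _ hne (hle.trans hpeq.le)).trans hpeq.symm)).trans
        Localization.AtPrime.map_eq_maximalIdeal
  obtain ⟨π, hπp, hπ⟩ : ∃ π ∈ p, ∀ x ∈ p, ∃ s ∉ p, ∃ c, s * x = π * c := by
    obtain ⟨g, hg⟩ := IsPrincipalIdealRing.principal (maximalIdeal Rp)
    obtain ⟨π, s₀, rfl⟩ := IsLocalization.exists_mk'_eq p.primeCompl g
    have hgm : IsLocalization.mk' Rp π s₀ ∈ maximalIdeal Rp := hg ▸ Ideal.mem_span_singleton_self _
    have hπp : π ∈ p := by
      rw [IsLocalization.AtPrime.mk'_mem_maximal_iff Rp p π s₀] at hgm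
      exact hgm
    refine ⟨π, hπp, fun x hx => ?_⟩
    have hxm : algebraMap R Rp x ∈ maximalIdeal Rp := (IsLocalization.AtPrime.to_map_mem_maximal_iff Rp p x).2 hx
    rw [hg] at hxm
    obtain ⟨d, hd⟩ := Ideal.mem_span_singleton.1 hxm
    obtain ⟨d', t, rfl⟩ := IsLocalization.exists_mk'_eq p.primeCompl d
    rw [← IsLocalization.mk'_mul, IsLocalization.eq_mk'_iff_mul_eq, ← map_mul,
      IsLocalization.eq_iff_exists p.primeCompl] at hd
    obtain ⟨v, hv⟩ := hd
    exact ⟨v * ((s₀ * t : p.primeCompl) : R), (v * (s₀ * t) : p.primeCompl).2, v * d', by linear_combination hv⟩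
  have hπ0 : π ≠ 0 := fun h0 => by
    obtain ⟨s, hs, c, hc⟩ := hπ r hrp
    rw [h0, zero_mul] at hc
    exact hr ((mul_eq_zero.1 hc).resolve_left fun h' => hs (h' ▸ p.zero_mem))
  -- the maximal ideal of `A` at `P` is generated by `π`
  let L := Localization.AtPrime P
  let φ : R →+* L := (algebraMap A L).comp (algebraMap R A)
  have hunit : ∀ s ∉ p, IsUnit (φ s) := fun s hs => IsLocalization.map_units L (⟨_, hs⟩ : P.primeCompl)
  have hpπ : ∀ x ∈ p, φ π ∣ φ x := fun x hx => by
    obtain ⟨s, hs, c, hc⟩ := hπ x hx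
    have := congrArg φ hc
    rw [map_mul, map_mul] at this
    exact ((hunit s hs).dvd_mul_left).1 ⟨φ c, this⟩
  have hred' : ∀ (z : A) (N : ℕ), φ π ∣ algebraMap A L z ^ N → φ π ∣ algebraMap A L z := by
    intro z N ⟨d, hd⟩
    obtain ⟨d', t, rfl⟩ := IsLocalization.exists_mk'_eq P.primeCompl d
    change algebraMap A L z ^ N = algebraMap A L (algebraMap R A π) * _ at hd
    rw [← map_pow, IsLocalization.mul_mk'_eq_mk'_of_mul, IsLocalization.eq_mk'_iff_mul_eq, ← map_mul,
      IsLocalization.eq_iff_exists P.primeCompl] at hd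
    obtain ⟨v, hv⟩ := hd
    haveI := hred p
    have h0 : (1 : p.ResidueField) ⊗ₜ[R] ((v : A) * t * z) = 0 := by
      refine IsNilpotent.eq_zero ⟨N + 1, ?_⟩
      rw [Algebra.TensorProduct.tmul_pow, one_pow, show ((v : A) * t * z) ^ (N + 1) =
        π • (((v : A) * t) ^ N * v * z * d') by
          rw [Algebra.smul_def]
          linear_combination ((v : A) * t) ^ N * z * hv]
      rw [← TensorProduct.smul_tmul, Algebra.smul_def, mul_one, Ideal.algebraMap_residueField_eq_zero.2 hπp,
        TensorProduct.zero_tmul]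
    obtain ⟨c, hc, hmem⟩ := exists_smul_mem_of_tmul_eq_zero p _ h0
    have hdvd : φ π ∣ algebraMap A L (c • ((v : A) * t * z)) := by
      refine Submodule.smul_induction_on hmem (fun x hx y _ => ?_) fun x y hx hy => ?_
      · rw [Algebra.smul_def, map_mul]
        exact Dvd.dvd.mul_right (hpπ x hx) _
      · rw [map_add]; exact dvd_add hx hy
    rw [Algebra.smul_def, map_mul, map_mul, map_mul] at hdvd
    exact (((hunit c hc).dvd_mul_left).1 hdvd) |> fun h' =>
      (((IsLocalization.map_units L v).mul (IsLocalization.map_units L t)).dvd_mul_left).1 h'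
  have hbL : algebraMap A L b ∉ Ideal.span {φ r} := fun hh => by
    obtain ⟨d, hd⟩ := Ideal.mem_span_singleton.1 hh
    obtain ⟨d', t, rfl⟩ := IsLocalization.exists_mk'_eq P.primeCompl d
    change algebraMap A L b = algebraMap A L (algebraMap R A r) * _ at hd
    rw [IsLocalization.mul_mk'_eq_mk'_of_mul, IsLocalization.eq_mk'_iff_mul_eq, ← map_mul,
      IsLocalization.eq_iff_exists P.primeCompl] at hd
    obtain ⟨v, hv⟩ := hd
    exact (v * t : P.primeCompl).2 ((hcolon _).2 (Ideal.mem_span_singleton.2 ⟨v * d', by rw [Submonoid.coe_mul]; linear_combination hv⟩))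
  have hmb : ∀ w ∈ maximalIdeal L, φ r ∣ w * algebraMap A L b := fun w hw => by
    obtain ⟨w', t, rfl⟩ := IsLocalization.exists_mk'_eq P.primeCompl w
    have hw' : w' ∈ P := (IsLocalization.AtPrime.mk'_mem_maximal_iff L P w' t).1 hw
    obtain ⟨d, hd⟩ := Ideal.mem_span_singleton.1 ((hcolon _).1 hw')
    refine ⟨IsLocalization.mk' L d t, ?_⟩
    show _ = algebraMap A L (algebraMap R A r) * _
    rw [IsLocalization.mul_mk'_eq_mk'_of_mul, mul_comm (IsLocalization.mk' L w' t),
      IsLocalization.mul_mk'_eq_mk'_of_mul, ← hd, mul_comm b]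
  have hπreg : IsSMulRegular L (φ π) := (hreg π hπ0).of_flat
  have hπm : φ π ∈ maximalIdeal L := (IsLocalization.AtPrime.to_map_mem_maximal_iff L P _).2 hπp
  have hkey : ∀ (k : ℕ) (y : L), (∀ w ∈ maximalIdeal L, φ π ^ (k + 1) ∣ w * y) → ¬ φ π ^ (k + 1) ∣ y →
      maximalIdeal L = Ideal.span {φ π} := by
    intro k
    induction k with
    | zero =>
      intro y hy hny
      simp only [zero_add, pow_one] at hy hny
      by_cases hym : y ∈ maximalIdeal L
      · obtain ⟨z, t, rfl⟩ := IsLocalization.exists_mk'_eq P.primeCompl y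
        have hu := IsLocalization.map_units L t
        have hzy : algebraMap A L z = IsLocalization.mk' L z t * algebraMap A L (t : A) :=
          (IsLocalization.mk'_spec L z t).symm
        have h2 : φ π ∣ algebraMap A L z ^ 2 := by
          rw [hzy, mul_pow, pow_two (IsLocalization.mk' L z t)]
          exact Dvd.dvd.mul_right (hy _ hym) _
        have h3 := hred' z 2 h2
        rw [hzy] at h3
        exact absurd (hu.dvd_mul_right.1 h3) hny
      · refine le_antisymm (fun w hw => Ideal.mem_span_singleton.2 ?_) ((Ideal.span_singleton_le_iff_mem _).2 hπm)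
        exact (IsLocalRing.notMem_maximalIdeal.1 hym).dvd_mul_right.1 (hy w hw)
    | succ k ih =>
      intro y hy hny
      by_cases hπy : φ π ∣ y
      · obtain ⟨y', rfl⟩ := hπy
        refine ih y' (fun w hw => ?_) fun ⟨d, hd⟩ => hny ⟨d, by rw [hd]; ring⟩
        obtain ⟨d, hd⟩ := hy w hw
        refine ⟨d, hπreg ?_⟩
        simp only [smul_eq_mul]
        linear_combination hd
      · obtain ⟨d, hd⟩ := hy _ hπm
        refine ih y (fun w hw => ?_) fun h' => hπy ((dvd_pow_self _ (Nat.succ_ne_zero k)).trans h')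
        obtain ⟨e, he⟩ := hy w hw
        exact (Dvd.intro_left _ (pow_succ' (φ π) (k + 1)).symm).trans ⟨e, he⟩
  have hassoc : ∃ n, φ π ^ (n + 1) ∣ φ r ∧ φ r ∣ φ π ^ (n + 1) := by
    obtain ⟨ϖ, hϖ⟩ := IsDiscreteValuationRing.exists_irreducible Rp
    have hmax := (IsDiscreteValuationRing.irreducible_iff_uniformizer ϖ).1 hϖ
    have hπeq : maximalIdeal Rp = Ideal.span {algebraMap R Rp π} := by
      refine le_antisymm (fun z hz => ?_) ((Ideal.span_singleton_le_iff_mem _).2
        ((IsLocalization.AtPrime.to_map_mem_maximal_iff Rp p π).2 hπp))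
      obtain ⟨x, s₁, rfl⟩ := IsLocalization.exists_mk'_eq p.primeCompl z
      obtain ⟨s, hs, c, hc⟩ := hπ x ((IsLocalization.AtPrime.mk'_mem_maximal_iff Rp p x s₁).1 hz)
      refine Ideal.mem_span_singleton.2 ⟨IsLocalization.mk' Rp c (⟨s, hs⟩ * s₁), ?_⟩
      rw [IsLocalization.mul_mk'_eq_mk'_of_mul, ← hc]
      exact IsLocalization.mk'_eq_of_eq (by simp; ring)
    obtain ⟨k, u, hu⟩ := IsDiscreteValuationRing.eq_unit_mul_pow_irreducible
      (fun h0 : algebraMap R Rp r = 0 => hr ((map_eq_zero_iff _ hinj).1 h0))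
      ((IsDiscreteValuationRing.irreducible_iff_uniformizer _).2 hπeq)
    let ψ : Rp →+* L := IsLocalization.lift (M := p.primeCompl) (g := φ) fun s => hunit _ s.2
    have hψ : φ r = ψ u * φ π ^ k := by
      have := congrArg ψ hu
      rw [map_mul, map_pow] at this
      simpa [ψ, IsLocalization.lift_eq] using this
    have hψu : IsUnit (ψ u) := u.isUnit.map ψ
    cases k with
    | zero =>
      refine absurd hrm ?_
      rw [hu, pow_zero, mul_one]
      exact IsLocalRing.notMem_maximalIdeal.2 u.isUnit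
    | succ n => exact ⟨n, hψ ▸ dvd_mul_left _ _, hψ ▸ hψu.mul_left_dvd.2 dvd_rfl⟩
  obtain ⟨n, hn1, hn2⟩ := hassoc
  exact mem_span_localization P (algebraMap R A π) (hreg π hπ0)
    (hkey n (algebraMap A L b) (fun w hw => hn1.trans (hmb w hw))
      (fun h' => hbL (Ideal.mem_span_singleton.2 (hn2.trans h'))))
    _ (hreg r hr) a q hq h

end Groth.Agent.EtaMod
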