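import Groth.Agent.EtaMod.Noeth
import Groth.Agent.FlatSyz5.Colim
import Groth.Agent.FlatMisc.ApproxGeomRed
import Groth.Agent.S2656
import Groth.Agent.S0566
import Groth.Agent.S0567

/-!
# Flat algebras with geometrically reduced fibres over normal domains are integrally closed in the generic fibre
-/

set_option autoImplicit false
set_option maxHeartbeats 1600000
set_option synthInstance.maxHeartbeats 200000
set_option linter.style.haveILetI false

universe u

open CategoryTheory Limits AlgebraicGeometry TensorProduct Polynomial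

namespace Groth.Agent.EtaMod

set_option backward.isDefEq.respectTransparency.types false in
/-- A model of finite type over the integers with geometrically reduced fibres. -/
theorem exists_ring_model {R A : Type u} [CommRing R] [CommRing A] [Algebra R A] [Algebra.FinitePresentation R A]
    [GeometricallyReduced (Spec.map (CommRingCat.ofHom (algebraMap R A)))] :
    ∃ (R₀ A₀ : Type u) (_ : CommRing R₀) (_ : CommRing A₀) (_ : Algebra R₀ A₀) (_ : Algebra R₀ R),
      Algebra.FiniteType ℤ R₀ ∧ Algebra.FinitePresentation R₀ A₀ ∧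
      (∀ (K : Type u) [Field K] [Algebra R₀ K], _root_.IsReduced (K ⊗[R₀] A₀)) ∧
      Nonempty (R ⊗[R₀] A₀ ≃ₐ[R] A) := by
  let φ : CommRingCat.of R ⟶ CommRingCat.of A := CommRingCat.ofHom (algebraMap R A)
  haveI : LocallyOfFinitePresentation (Spec.map φ) :=
    HasRingHomProperty.Spec_iff.2 (RingHom.finitePresentation_algebraMap.2 ‹_›)
  obtain ⟨X₀, S₀, f₀, g, g', hX, hS, sq, hZ, hft, hgr⟩ :=
    FlatMisc.ApproxGeomRed.exists_model_geomReduced (Spec.map φ)
  haveI := hX; haveI := hS; haveI := hft; haveI := hgr; haveI := hZ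
  haveI : IsNoetherianRing Γ(S₀, ⊤) := Algebra.FiniteType.isNoetherianRing ℤ _
  let u : Γ(S₀, ⊤) ⟶ CommRingCat.of R := g.appTop ≫ (Scheme.ΓSpecIso (CommRingCat.of R)).hom
  let v : Γ(X₀, ⊤) ⟶ CommRingCat.of A := g'.appTop ≫ (Scheme.ΓSpecIso (CommRingCat.of A)).hom
  have hpo : IsPushout f₀.appTop u v φ :=
    (isPushout_appTop_of_isPullback sq).of_iso (Iso.refl _) (Iso.refl _) (Scheme.ΓSpecIso (CommRingCat.of R))
      (Scheme.ΓSpecIso (CommRingCat.of A)) (by simp) (by simp [u]) (by simp [v]) (Scheme.ΓSpecIso_naturality φ)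
  letI : Algebra Γ(S₀, ⊤) Γ(X₀, ⊤) := f₀.appTop.hom.toAlgebra
  letI : Algebra Γ(S₀, ⊤) R := u.hom.toAlgebra
  letI : Algebra Γ(X₀, ⊤) A := v.hom.toAlgebra
  letI : Algebra Γ(S₀, ⊤) A := (φ.hom.comp u.hom).toAlgebra
  haveI : IsScalarTower Γ(S₀, ⊤) R A := IsScalarTower.of_algebraMap_eq fun _ => rfl
  haveI : IsScalarTower Γ(S₀, ⊤) Γ(X₀, ⊤) A := IsScalarTower.of_algebraMap_eq fun x =>
    (DFunLike.congr_fun (congrArg CommRingCat.Hom.hom hpo.w) x).symm
  have hpo' : IsPushout (CommRingCat.ofHom (algebraMap Γ(S₀, ⊤) R))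
      (CommRingCat.ofHom (algebraMap Γ(S₀, ⊤) Γ(X₀, ⊤)))
      (CommRingCat.ofHom (algebraMap R A)) (CommRingCat.ofHom (algebraMap Γ(X₀, ⊤) A)) := hpo.flip
  haveI : Algebra.IsPushout Γ(S₀, ⊤) R Γ(X₀, ⊤) A :=
    CommRingCat.isPushout_iff_isPushout.mp hpo'
  have hfta : f₀.appTop.hom.FiniteType :=
    (HasRingHomProperty.iff_of_isAffine (P := @LocallyOfFiniteType)).1 inferInstance
  haveI : Algebra.FiniteType Γ(S₀, ⊤) Γ(X₀, ⊤) := hfta
  refine ⟨Γ(S₀, ⊤), Γ(X₀, ⊤), inferInstance, inferInstance, inferInstance, inferInstance, hZ,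
    Algebra.FinitePresentation.of_finiteType.1 inferInstance, fun K _ _ => ?_,
    ⟨Algebra.IsPushout.equiv Γ(S₀, ⊤) R Γ(X₀, ⊤) A⟩⟩
  haveI : GeometricallyReduced (Spec.map f₀.appTop) := by
    have h := (MorphismProperty.arrow_mk_iso_iff @GeometricallyReduced (arrowIsoSpecΓOfIsAffine f₀)).1 hgr
    exact h
  let k : Γ(S₀, ⊤) ⟶ CommRingCat.of K := CommRingCat.ofHom (algebraMap Γ(S₀, ⊤) K)
  haveI : AlgebraicGeometry.IsReduced (pullback (Spec.map k) (Spec.map f₀.appTop)) :=
    pullback_of_geometrically' (GeometricallyReduced.geometrically_isReduced (f := Spec.map f₀.appTop)) _ _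
  haveI : AlgebraicGeometry.IsReduced
      (pullback (Spec.map (CommRingCat.ofHom (algebraMap Γ(S₀, ⊤) Γ(X₀, ⊤))))
        (Spec.map (CommRingCat.ofHom (algebraMap Γ(S₀, ⊤) K)))) :=
    isReduced_of_isOpenImmersion (pullbackSymmetry (Spec.map f₀.appTop) (Spec.map k)).hom
  haveI : AlgebraicGeometry.IsReduced (Spec (CommRingCat.of (Γ(X₀, ⊤) ⊗[Γ(S₀, ⊤)] K))) :=
    isReduced_of_isOpenImmersion (pullbackSpecIso Γ(S₀, ⊤) Γ(X₀, ⊤) K).inv
  haveI : _root_.IsReduced (Γ(X₀, ⊤) ⊗[Γ(S₀, ⊤)] K) := by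
    rwa [affine_isReduced_iff] at this
  exact isReduced_of_injective _ (Algebra.TensorProduct.comm Γ(S₀, ⊤) K Γ(X₀, ⊤)).injective

/-- A finitely generated subring of a normal domain lies in a normal Noetherian subring. -/
theorem exists_normal_stage {R : Type u} [CommRing R] [IsDomain R] [IsIntegrallyClosed R]
    (T : Type u) [CommRing T] [Algebra T R] (hinj : Function.Injective (algebraMap T R))
    (hT : Algebra.FiniteType ℤ T) :
    ∃ (N : Type u) (_ : CommRing N) (_ : IsDomain N) (_ : Algebra T N) (_ : Algebra N R),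
      IsScalarTower T N R ∧ IsNoetherianRing N ∧ IsIntegrallyClosed N ∧ Function.Injective (algebraMap N R) := by
  haveI : IsDomain T := hinj.isDomain (algebraMap T R)
  haveI : IsNoetherianRing T := Algebra.FiniteType.isNoetherianRing ℤ _
  haveI : IsPrincipalIdealRing (ULift.{u} ℤ) :=
    IsPrincipalIdealRing.of_surjective (ULift.ringEquiv (R := ℤ)).symm.toRingHom (ULift.ringEquiv (R := ℤ)).symm.surjective
  haveI : IsDomain (ULift.{u} ℤ) := (ULift.ringEquiv (R := ℤ)).toMulEquiv.isDomain ℤ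
  haveI : IsDedekindDomain (ULift.{u} ℤ) := inferInstance
  haveI : CharZero (ULift.{u} ℤ) := ⟨fun a b h => by simpa using congrArg ULift.down h⟩
  letI : Algebra (ULift.{u} ℤ) T := ((algebraMap ℤ T).comp (ULift.ringEquiv (R := ℤ)).toRingHom).toAlgebra
  haveI : Algebra.FiniteType (ULift.{u} ℤ) T :=
    RingHom.FiniteType.comp (RingHom.finiteType_algebraMap.2 hT)
      (RingHom.FiniteType.of_surjective (ULift.ringEquiv (R := ℤ)).toRingHom (ULift.ringEquiv (R := ℤ)).surjective)
  have hN2 : CAlg.IsN2 T := ((S0567.result _).1 (S2656.result (ULift.{u} ℤ))).2 T inferInstance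
  haveI : Module.Finite T (integralClosure T (FractionRing T)) := hN2 (FractionRing T) inferInstance
  have hinj' : Function.Injective ((algebraMap R (FractionRing R)).comp (algebraMap T R)) :=
    (IsFractionRing.injective R (FractionRing R)).comp hinj
  let j : FractionRing T →+* FractionRing R := IsFractionRing.lift hinj'
  have hjT : ∀ t : T, j (algebraMap T (FractionRing T) t) = algebraMap R (FractionRing R) (algebraMap T R t) :=
    fun t => IsFractionRing.lift_algebraMap hinj' t
  have hNR : ∀ z : integralClosure T (FractionRing T), ∃ y : R, algebraMap R (FractionRing R) y = j z.1 := fun z => by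
    obtain ⟨P, hP, hPz⟩ := z.2
    refine IsIntegrallyClosed.isIntegral_iff.1 ⟨P.map (algebraMap T R), hP.map _, ?_⟩
    rw [Polynomial.eval₂_map, show (algebraMap R (FractionRing R)).comp (algebraMap T R) = j.comp (algebraMap T _)
      from RingHom.ext fun t => (hjT t).symm]
    exact (Polynomial.hom_eval₂ P (algebraMap T (FractionRing T)) j z.1).symm.trans (by
      have hPz' : Polynomial.eval₂ (algebraMap T (FractionRing T)) z.1 P = 0 := hPz
      rw [hPz', map_zero])
  choose ν hν using hNR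
  let νh : integralClosure T (FractionRing T) →+* R :=
    { toFun := ν
      map_one' := IsFractionRing.injective R (FractionRing R) (by rw [hν]; simp)
      map_zero' := IsFractionRing.injective R (FractionRing R) (by rw [hν]; simp)
      map_mul' := fun x y => IsFractionRing.injective R (FractionRing R) (by rw [hν, map_mul, hν, hν]; simp)
      map_add' := fun x y => IsFractionRing.injective R (FractionRing R) (by rw [hν, map_add, hν, hν]; simp) }
  letI : Algebra (integralClosure T (FractionRing T)) R := νh.toAlgebra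
  refine ⟨integralClosure T (FractionRing T), inferInstance, inferInstance, inferInstance, inferInstance,
    IsScalarTower.of_algebraMap_eq fun t => IsFractionRing.injective R (FractionRing R)
      ((hjT t).symm.trans (hν (algebraMap T _ t)).symm),
    IsNoetherianRing.of_finite T _, integralClosure.isIntegrallyClosedOfFiniteExtension (L := FractionRing T) (FractionRing T),
    fun x y hxy => Subtype.ext (j.injective (by rw [← hν x, ← hν y]; exact congrArg _ hxy))⟩

/-- The statement at a Noetherian stage gives it at the top. -/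
theorem mem_span_of_stage {R₀ N R A A₀ : Type u} [CommRing R₀] [CommRing N] [IsDomain N] [IsNoetherianRing N]
    [IsIntegrallyClosed N] [CommRing R] [CommRing A] [CommRing A₀] [Algebra R₀ N] [Algebra R₀ R] [Algebra N R]
    [IsScalarTower R₀ N R] [Algebra R A] [Algebra R₀ A₀] [Algebra.FiniteType R₀ A₀]
    (hinj : Function.Injective (algebraMap N R)) [Module.Flat N (N ⊗[R₀] A₀)]
    (hred : ∀ (K : Type u) [Field K] [Algebra R₀ K], _root_.IsReduced (K ⊗[R₀] A₀))
    (e : R ⊗[R₀] A₀ ≃ₐ[R] A) (r : R) (rN : N) (hrN : algebraMap N R rN = r) (hr : r ≠ 0) (a : A) (q : A[X]) (hq : q.Monic)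
    (hmem : ∀ x : A, (x = a ∨ x ∈ q.coeffs) → ∃ y : N ⊗[R₀] A₀,
      Algebra.TensorProduct.map (IsScalarTower.toAlgHom R₀ N R) (AlgHom.id R₀ A₀) y = e.symm x)
    (h : (q.scaleRoots (algebraMap R A r)).eval a = 0) : a ∈ Ideal.span {algebraMap R A r} := by
  haveI : IsNoetherianRing (N ⊗[R₀] A₀) := Algebra.FiniteType.isNoetherianRing N _
  have hredN : ∀ (p : Ideal N) [p.IsPrime], _root_.IsReduced (p.Fiber (N ⊗[R₀] A₀)) := fun p _ => by
    haveI := hred p.ResidueField
    exact isReduced_of_injective _ (Algebra.TensorProduct.cancelBaseChange R₀ N N p.ResidueField A₀).injective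
  let μ := Algebra.TensorProduct.map (IsScalarTower.toAlgHom R₀ N R) (AlgHom.id R₀ A₀)
  have hμ : Function.Injective μ := by
    have h0 : Function.Injective (Algebra.TensorProduct.includeRight : N ⊗[R₀] A₀ →ₐ[N] R ⊗[N] (N ⊗[R₀] A₀)) :=
      Algebra.TensorProduct.includeRight_injective hinj
    have hcomp : ∀ z : N ⊗[R₀] A₀, μ z =
        Algebra.TensorProduct.cancelBaseChange R₀ N R R A₀ (1 ⊗ₜ[N] z) := fun z => by
      induction z using TensorProduct.induction_on with
      | zero => simp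
      | tmul x y => simp [μ, Algebra.smul_def]
      | add x y hx hy => rw [TensorProduct.tmul_add, map_add, map_add, hx, hy]
    intro x y hxy
    rw [hcomp, hcomp] at hxy
    exact h0 ((Algebra.TensorProduct.cancelBaseChange R₀ N R R A₀).injective hxy)
  let Ψ : N ⊗[R₀] A₀ →+* A := e.toAlgHom.toRingHom.comp μ.toRingHom
  have hΨ : Function.Injective Ψ := e.injective.comp hμ
  have hlift : ∀ x : A, (x = a ∨ x ∈ q.coeffs) → ∃ y, Ψ y = x := fun x hx => by
    obtain ⟨y, hy⟩ := hmem x hx
    exact ⟨y, (congrArg e hy).trans (e.apply_symm_apply x)⟩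
  obtain ⟨a', ha'⟩ := hlift a (Or.inl rfl)
  rcases subsingleton_or_nontrivial A with hA | hA
  · rw [Subsingleton.elim a 0]; exact zero_mem _
  obtain ⟨q', hq', -, hq'm⟩ := Polynomial.lifts_and_degree_eq_and_monic
    (show q ∈ Polynomial.lifts Ψ by
      rw [Polynomial.lifts_iff_coeff_lifts]
      intro k
      by_cases hk : q.coeff k = 0
      · exact ⟨0, by rw [map_zero, hk]⟩
      · exact hlift _ (Or.inr (Polynomial.coeff_mem_coeffs hk))) hq
  have hΨr : Ψ (algebraMap N (N ⊗[R₀] A₀) rN) = algebraMap R A r := by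
    show e (μ (rN ⊗ₜ[R₀] (1 : A₀))) = _
    rw [Algebra.TensorProduct.map_tmul, IsScalarTower.toAlgHom_apply, hrN, map_one, ← e.commutes]
    rfl
  have hr' : rN ≠ 0 := fun h0 => hr (by rw [← hrN, h0, map_zero])
  have heval : (q'.scaleRoots (algebraMap N (N ⊗[R₀] A₀) rN)).eval a' = 0 := by
    apply hΨ
    rw [map_zero, ← Polynomial.eval_map_apply, Polynomial.map_scaleRoots _ _ Ψ (by rw [hq'm.leadingCoeff, map_one]; exact one_ne_zero), hq', ha', hΨr, h]
  obtain ⟨w, hw⟩ := Ideal.mem_span_singleton.1 (mem_span_noeth hredN _ hr' a' q' hq'm heval)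
  exact Ideal.mem_span_singleton.2 ⟨Ψ w, by rw [← ha', hw, map_mul, hΨr]⟩

/-- In a flat finitely presented algebra with geometrically reduced fibres over a normal domain, an element
integral over the algebra after dividing by a nonzero element of the base is divisible by it. -/
theorem mem_span_normal {R A : Type u} [CommRing R] [IsDomain R] [IsIntegrallyClosed R] [CommRing A]
    [Algebra R A] [Module.Flat R A] [Algebra.FinitePresentation R A]
    [GeometricallyReduced (Spec.map (CommRingCat.ofHom (algebraMap R A)))]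
    (r : R) (hr : r ≠ 0) (a : A) (q : A[X]) (hq : q.Monic)
    (h : (q.scaleRoots (algebraMap R A r)).eval a = 0) : a ∈ Ideal.span {algebraMap R A r} := by
  classical
  obtain ⟨R₀, A₀, _, _, _, _, hZ, hfp, hred, ⟨e⟩⟩ := exists_ring_model (R := R) (A := A)
  haveI : IsNoetherianRing R₀ := Algebra.FiniteType.isNoetherianRing ℤ _
  -- a flat stage
  let ι := {S : Subalgebra R₀ R // S.FG}
  have hsup : ∀ S T : ι, ∃ U : ι, S.1 ≤ U.1 ∧ T.1 ≤ U.1 := fun S T => ⟨⟨S.1 ⊔ T.1, S.2.sup T.2⟩, le_sup_left, le_sup_right⟩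
  have hcolim : FlatCA.IsDirectedColimitRing (fun S : ι => ↥S.1)
      (fun S T (hST : S ≤ T) => (Subalgebra.inclusion hST).toRingHom) R :=
    ⟨⟨hsup⟩, ⟨⟨⊥, Subalgebra.fg_bot⟩⟩, fun S => rfl, fun _ _ _ _ _ => rfl, fun _ _ _ => rfl,
      fun x => ⟨⟨Algebra.adjoin R₀ {x}, by simpa using Subalgebra.fg_adjoin_finset {x}⟩, ⟨x, Algebra.subset_adjoin rfl⟩, rfl⟩,
      fun S x hx => ⟨S, le_rfl, Subtype.ext hx⟩⟩
  haveI : Module.Flat R (R ⊗[R₀] A₀) := Module.Flat.of_linearEquiv e.toLinearEquiv
  obtain ⟨S₁, hS₁⟩ := FlatSyz5.exists_flat_stage (fun S : ι => ↥S.1) (fun S T hST => Subalgebra.inclusion hST)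
    R hcolim (B₀ := A₀) A₀ inferInstance
  -- finitely many elements come from a finitely generated subalgebra
  obtain ⟨T, hT, hmem⟩ : ∃ T : Subalgebra R₀ R, T.FG ∧ ∀ x ∈ insert a q.coeffs,
      ∃ y, Algebra.TensorProduct.map T.val (AlgHom.id R₀ A₀) y = e.symm x := by
    choose F hF using fun x : A => TensorProduct.exists_finset (R := R₀) (e.symm x)
    let gens : Finset R := (insert a q.coeffs).biUnion fun x => (F x).image Prod.fst
    refine ⟨Algebra.adjoin R₀ (gens : Set R), Subalgebra.fg_adjoin_finset _, fun x hx => ?_⟩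
    refine (AlgHom.mem_range _).1 ?_
    rw [hF x]
    refine sum_mem fun z hz => ?_
    exact ⟨⟨z.1, Algebra.subset_adjoin (Finset.mem_biUnion.2 ⟨x, hx, Finset.mem_image_of_mem _ hz⟩)⟩ ⊗ₜ[R₀] z.2, by simp⟩
  let T₁ : Subalgebra R₀ R := S₁.1 ⊔ T ⊔ Algebra.adjoin R₀ {r}
  have hT₁ : T₁.FG := (S₁.2.sup hT).sup (by simpa using Subalgebra.fg_adjoin_finset {r})
  haveI : Algebra.FiniteType R₀ T₁ := (Subalgebra.fg_iff_finiteType T₁).1 hT₁
  obtain ⟨N, _, _, _, _, htow, hNN, hNic, hNinj⟩ := exists_normal_stage (R := R) T₁ Subtype.val_injective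
    (Algebra.FiniteType.trans hZ inferInstance)
  haveI := htow; haveI := hNN; haveI := hNic
  letI : Algebra R₀ N := ((algebraMap T₁ N).comp (algebraMap R₀ T₁)).toAlgebra
  haveI : IsScalarTower R₀ T₁ N := IsScalarTower.of_algebraMap_eq fun _ => rfl
  haveI : IsScalarTower R₀ N R := IsScalarTower.of_algebraMap_eq fun x => by
    rw [IsScalarTower.algebraMap_apply R₀ T₁ R, IsScalarTower.algebraMap_apply T₁ N R]
    rfl
  letI : Algebra S₁.1 N := ((algebraMap T₁ N).comp
    (Subalgebra.inclusion (le_sup_left.trans le_sup_left : S₁.1 ≤ T₁)).toRingHom).toAlgebra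
  haveI : IsScalarTower R₀ S₁.1 N := IsScalarTower.of_algebraMap_eq fun _ => rfl
  haveI : Module.Flat N (N ⊗[R₀] A₀) :=
    Module.Flat.of_linearEquiv (Algebra.TensorProduct.cancelBaseChange R₀ S₁.1 N N A₀).symm.toLinearEquiv
  refine mem_span_of_stage hNinj hred e r
    (algebraMap T₁ N ⟨r, le_sup_right (a := S₁.1 ⊔ T) (Algebra.subset_adjoin rfl)⟩)
    (IsScalarTower.algebraMap_apply T₁ N R _).symm hr a q hq (fun x hx => ?_) h
  obtain ⟨y, hy⟩ := hmem x (Finset.mem_insert.2 hx)
  refine ⟨Algebra.TensorProduct.map ((IsScalarTower.toAlgHom R₀ T₁ N).comp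
    (Subalgebra.inclusion (le_sup_right.trans le_sup_left : T ≤ T₁))) (AlgHom.id R₀ A₀) y, ?_⟩
  rw [← hy]
  clear hy
  induction y using TensorProduct.induction_on with
  | zero => simp
  | tmul x y => simp [← IsScalarTower.algebraMap_apply T₁ N R]
  | add x y hx hy => simp only [map_add, hx, hy]

end Groth.Agent.EtaMod
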